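import Groth.Agent.EqLiftLib.Local

/-!
# The formal lift is polynomial and equivariant
-/

set_option autoImplicit false
set_option linter.style.haveILetI false
universe u

open CategoryTheory CategoryTheory.Limits MonoidalCategory CartesianMonoidalCategory MonObj
  AlgebraicGeometry Opposite
open BBLib (coord zero zeroSec coord_ext coord_comp coord_mul exists_coord)

noncomputable section

namespace EqLiftLib

variable {S : Scheme.{u}} {X U : Over S} {R : Type u} [CommRing R] {r : Spec (CommRingCat.of R) ⟶ S}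
variable {σU : Scaling U} {σX : Scaling X} {f : U ⟶ X}

variable (r) in
/-- The torus times the formal line. -/
abbrev torObj : Over S :=
  sp (Spec.map (CommRingCat.ofHom ((LaurentPolynomial.C (R := PowerSeries R)).comp PowerSeries.C)) ≫ r)

variable (r) in
/-- Its projection. -/
def torPr : torObj r ⟶ serObj r :=
  spHom LaurentPolynomial.C (by rw [← Category.assoc, spec_comp])

theorem swap_comp_C : (swap R).comp LaurentPolynomial.C = PowerSeries.map LaurentPolynomial.C :=
  RingHom.ext fun a => LaurentPolynomial.eval₂_C _ _ a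

theorem swap_comp_CC : (swap R).comp ((LaurentPolynomial.C (R := PowerSeries R)).comp PowerSeries.C) =
    (PowerSeries.C (R := LaurentPolynomial R)).comp LaurentPolynomial.C := by
  rw [← RingHom.comp_assoc, swap_comp_C]
  exact RingHom.ext fun a => by simp

variable (r) in
/-- The map from the twisted formal line. -/
def swapHom : serLObj r ⟶ torObj r :=
  spHom (swap R) (by rw [← Category.assoc, spec_comp, swap_comp_CC])

/-- The unit `λ` upstairs. -/
def lamTor (R : Type u) [CommRing R] : (LaurentPolynomial (PowerSeries R))ˣ :=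
  (LaurentPolynomial.isUnit_T (R := PowerSeries R) 1).unit

theorem swap_T : swap R (LaurentPolynomial.T 1) = PowerSeries.C (LaurentPolynomial.T 1) := by
  refine PowerSeries.ext fun j => ?_
  have h := swap_C_mul_T (1 : PowerSeries R) 1 j
  rw [map_one, _root_.one_mul] at h
  rw [h, PowerSeries.coeff_C, PowerSeries.coeff_one]
  split_ifs <;> simp

theorem res_lamTor : res (swapHom r) (glU (lamTor R)) = lamPt r := by
  refine Units.ext ?_
  change (Spec.map (CommRingCat.ofHom (swap R))).appTop (gl (LaurentPolynomial.T 1)) = _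
  rw [gl_map, swap_T]
  rfl

theorem swapHom_torPr : swapHom r ≫ torPr r = inclHom r := by
  refine Over.OverMorphism.ext ?_
  change Spec.map _ ≫ Spec.map _ = Spec.map _
  rw [spec_comp, swap_comp_C]

/-- The formal lift is a polynomial one. -/
theorem exists_poly {S₀ : S.Opens} (hS₀ : IsAffineOpen S₀) (hr : ∀ p, r p ∈ S₀)
    (hU₀ : IsAffineOpen (U.hom ⁻¹ᵁ S₀)) (d : serObj r ⟶ U)
    (htw : twistHom r ≫ d = σU.op (lamPt r) (inclHom r ≫ d)) :
    ∃ ψ : lineObj r ⟶ U, serToLine r ≫ ψ = d := by
  have hd : ∀ q, d.left q ∈ U.hom ⁻¹ᵁ S₀ := fun q => by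
    change U.hom (d.left q) ∈ S₀
    rw [← Scheme.Hom.comp_apply, Over.w d]
    exact hr _
  let z : torObj r ⟶ U := σU.op (glU (lamTor R)) (torPr r ≫ d)
  have hz : ∀ q, z.left q ∈ U.hom ⁻¹ᵁ S₀ := fun q => by
    change U.hom (z.left q) ∈ S₀
    rw [← Scheme.Hom.comp_apply, Over.w z]
    exact hr _
  have hzd : swapHom r ≫ z = twistHom r ≫ d := by
    rw [σU.natural, res_lamTor, ← Category.assoc, swapHom_torPr, htw]
  let dB := pre hU₀ d.left hd
  let zB := pre hU₀ z.left hz
  have hB : zB ≫ CommRingCat.ofHom (swap R) = dB ≫ CommRingCat.ofHom (twist R) := by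
    rw [pre_comp, pre_comp]
    congr 1
    exact congrArg CommaMorphism.left hzd
  have hpoly : ∀ b, ∃ p : Polynomial R, toSeries R p = dB b := fun b =>
    exists_polynomial _ (zB b) (DFunLike.congr_fun (congrArg CommRingCat.Hom.hom hB) b)
  choose ψ hψ using hpoly
  let ψB : Γ(U.left, U.hom ⁻¹ᵁ S₀) →+* Polynomial R :=
    { toFun := ψ
      map_one' := toSeries_injective (by rw [hψ, map_one, map_one])
      map_mul' := fun a b => toSeries_injective (by rw [hψ, map_mul, map_mul, hψ, hψ])
      map_zero' := toSeries_injective (by rw [hψ, map_zero, map_zero])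
      map_add' := fun a b => toSeries_injective (by rw [hψ, map_add, map_add, hψ, hψ]) }
  let l : Spec (CommRingCat.of (Polynomial R)) ⟶ U.left := Spec.map (CommRingCat.ofHom ψB) ≫ hU₀.fromSpec
  have hl : Spec.map (CommRingCat.ofHom (toSeries R)) ≫ l = d.left := by
    refine (Category.assoc _ _ _).symm.trans ?_
    rw [spec_comp, ← pre_spec hU₀ d.left hd]
    congr 2
    exact CommRingCat.hom_ext (RingHom.ext hψ)
  refine ⟨Over.homMk l ?_, Over.OverMorphism.ext hl⟩
  refine eq_of_injective hS₀ (l ≫ U.hom) _ (fun p => ?_) (fun p => hr _) (toSeries R) toSeries_injective ?_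
  · rw [Scheme.Hom.comp_apply]
    have hmem : l p ∈ Set.range hU₀.fromSpec := ⟨_, (Scheme.Hom.comp_apply _ _ _).symm⟩
    rw [hU₀.range_fromSpec] at hmem
    exact hmem
  · change _ = Spec.map (CommRingCat.ofHom (toSeries R)) ≫ Spec.map (CommRingCat.ofHom Polynomial.C) ≫ r
    rw [← Category.assoc, hl, ← Category.assoc, spec_comp, toSeries_comp_C]
    exact Over.w d

variable (r) in
/-- The universal scaled point. -/
abbrev univObj : Over S :=
  sp (Spec.map (CommRingCat.ofHom ((LaurentPolynomial.C (R := Polynomial R)).comp Polynomial.C)) ≫ r)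

variable (r) in
/-- Its point of the line object. -/
def univLine : univObj r ⟶ lineObj r :=
  spHom LaurentPolynomial.C (by rw [← Category.assoc, spec_comp])

variable (R) in
/-- Embedding of its ring. -/
def univEmb : LaurentPolynomial (Polynomial R) →+* PowerSeries (LaurentPolynomial R) :=
  (swap R).comp (LaurentPolynomial.eval₂ ((LaurentPolynomial.C (R := PowerSeries R)).comp (toSeries R))
    (lamTor R))

theorem univEmb_C (p : Polynomial R) :
    univEmb R (LaurentPolynomial.C p) = PowerSeries.map LaurentPolynomial.C (toSeries R p) := by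
  rw [univEmb, RingHom.comp_apply, LaurentPolynomial.eval₂_C, RingHom.comp_apply, ← RingHom.comp_apply (swap R),
    swap_comp_C]

theorem univEmb_T : univEmb R (LaurentPolynomial.T 1) = PowerSeries.C (LaurentPolynomial.T 1) := by
  rw [univEmb, RingHom.comp_apply, LaurentPolynomial.eval₂_T, zpow_one, lamTor, IsUnit.unit_spec, swap_T]

theorem univEmb_coeff (z : LaurentPolynomial (Polynomial R)) (j : ℕ) (i : ℤ) :
    (PowerSeries.coeff j (univEmb R z)).coeff i = (z.coeff i).coeff j := by
  rw [univEmb, RingHom.comp_apply, swap_coeff]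
  induction z using LaurentPolynomial.induction_on' with
  | add p q hp hq =>
    simp only [map_add, AddMonoidAlgebra.coeff_add, Finsupp.add_apply, Polynomial.coeff_add] at hp hq ⊢
    rw [hp, hq]
  | C_mul_T n a =>
    have hT : LaurentPolynomial.eval₂ ((LaurentPolynomial.C (R := PowerSeries R)).comp (toSeries R))
        (lamTor R) (LaurentPolynomial.T n) = LaurentPolynomial.T n := by
      rw [LaurentPolynomial.eval₂_T]
      exact unit_T_zpow (R := PowerSeries R) n
    rw [map_mul, hT, LaurentPolynomial.eval₂_C, RingHom.comp_apply, coeff_C_mul_T', coeff_C_mul_T']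
    split_ifs <;> simp

theorem univEmb_injective : Function.Injective (univEmb R) := fun a b h =>
  LaurentPolynomial.ext fun i => Polynomial.ext fun j => by rw [← univEmb_coeff, ← univEmb_coeff, h]

variable (r) in
/-- The map from the twisted formal line to the universal scaled point. -/
def univHom : serLObj r ⟶ univObj r :=
  spHom (univEmb R) (by
    rw [← Category.assoc, spec_comp]
    congr 3
    refine RingHom.ext fun a => ?_
    rw [RingHom.comp_apply, RingHom.comp_apply, univEmb_C]
    simp)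

/-- A polynomial lift satisfying the twisting identity is scaled. -/
theorem isScaled_chartInv {S₀ : S.Opens} (hr : ∀ p, r p ∈ S₀)
    (hU₀ : IsAffineOpen (U.hom ⁻¹ᵁ S₀)) (Ψ : A S ⊗ sp r ⟶ U)
    (htw : twistHom r ≫ serToLine r ≫ chart r ≫ Ψ = σU.op (lamPt r) (inclHom r ≫ serToLine r ≫ chart r ≫ Ψ)) :
    IsScaled σU Ψ := by
  let K : Over S := univObj r
  obtain ⟨gK, hgK⟩ := exists_coord K (gl (R := LaurentPolynomial (Polynomial R)) (LaurentPolynomial.T 1))
  let hK : K ⟶ A S := univLine r ≫ lineVar r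
  let pK : K ⟶ sp r := univLine r ≫ linePr r
  let lK : Γ(K.left, ⊤)ˣ := glU (LaurentPolynomial.isUnit_T (R := Polynomial R) 1).unit
  have hlK : (lK : Γ(K.left, ⊤)) = coord gK := by rw [hgK]; rfl
  have key : lift (gK * hK) pK ≫ Ψ = σU.op lK (lift hK pK ≫ Ψ) := by
    refine Over.OverMorphism.ext ?_
    have hin : ∀ (x : K ⟶ U) q, x.left q ∈ U.hom ⁻¹ᵁ S₀ := fun x q => by
      change U.hom (x.left q) ∈ S₀
      rw [← Scheme.Hom.comp_apply, Over.w x]
      exact hr _
    refine eq_of_injective hU₀ _ _ (hin _) (hin _) (univEmb R) univEmb_injective ?_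
    refine congrArg CommaMorphism.left (show univHom r ≫ lift (gK * hK) pK ≫ Ψ =
      univHom r ≫ σU.op lK (lift hK pK ≫ Ψ) from ?_)
    have hi : univHom r ≫ univLine r = inclHom r ≫ serToLine r := by
      refine Over.OverMorphism.ext ?_
      change Spec.map _ ≫ Spec.map _ = Spec.map _ ≫ Spec.map _
      rw [spec_comp, spec_comp]
      congr 2
      exact RingHom.ext fun p => univEmb_C p
    have hl : univHom r ≫ lift (gK * hK) pK = twistHom r ≫ serToLine r ≫ chart r := by
      rw [chart, comp_lift, MonObj.comp_mul, comp_lift, comp_lift]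
      simp only [hK, pK, ← Category.assoc, hi]
      congr 1
      · refine coord_ext ?_
        simp only [univHom, inclHom, twistHom, serToLine, spHom_comp]
        rw [coord_mul, coord_spHom _ _ _ _ hgK, coord_spHom _ _ _ _ coord_lineVar,
          coord_spHom _ _ _ _ coord_lineVar, gl, gl, gl, ← map_mul]
        congr 1
        simp only [univEmb_T, RingHom.comp_apply, Polynomial.coeToPowerSeries.ringHom_apply, Polynomial.coe_X,
          twist_X, PowerSeries.map_X]
      · refine Over.OverMorphism.ext ?_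
        simp only [inclHom, twistHom, serToLine, linePr, spHom_comp]
        change Spec.map _ = Spec.map _
        congr 2
        refine RingHom.ext fun a => PowerSeries.ext fun n => ?_
        cases n <;> simp [twist, PowerSeries.coeff_C]
    have hh : univHom r ≫ lift hK pK = inclHom r ≫ serToLine r ≫ chart r := by
      rw [chart, comp_lift, comp_lift, comp_lift]
      simp only [hK, pK, ← Category.assoc, hi]
    have hres : res (univHom r) lK = lamPt r := by
      refine Units.ext ?_
      change (Spec.map (CommRingCat.ofHom (univEmb R))).appTop (gl (LaurentPolynomial.T 1)) = _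
      rw [gl_map, univEmb_T]
      rfl
    rw [σU.natural, hres, ← Category.assoc, hl, reassoc_of% hh]
    simpa only [Category.assoc] using htw
  intro T g h p hg
  let β : R →+* Γ(T.left, ⊤) := ((Scheme.ΓSpecIso (CommRingCat.of R)).inv ≫ p.left.appTop).hom
  let χ : LaurentPolynomial (Polynomial R) →+* Γ(T.left, ⊤) :=
    LaurentPolynomial.eval₂ (Polynomial.eval₂RingHom β (coord h)) hg.unit
  let l : T.left ⟶ Spec (CommRingCat.of (LaurentPolynomial (Polynomial R))) :=
    T.left.toSpecΓ ≫ Spec.map (CommRingCat.ofHom χ)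
  have hl : l ≫ Spec.map (CommRingCat.ofHom ((LaurentPolynomial.C (R := Polynomial R)).comp Polynomial.C)) = p.left := by
    rw [Category.assoc, ← Spec.map_comp]
    refine Eq.trans ?_ (AttrPtLib.toSpec_spec p.left)
    congr 2
    refine CommRingCat.hom_ext (RingHom.ext fun a => ?_)
    simp [χ, β]
  let e : T ⟶ K := Over.homMk l (by
    change l ≫ Spec.map _ ≫ r = T.hom
    rw [← Category.assoc, hl]
    exact Over.w p)
  have hev : ∀ a, e.left.appTop (gl a) = χ a := fun a => by
    change ((Scheme.ΓSpecIso _).inv ≫ l.appTop) a = _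
    rw [AttrPtLib.appTop_toSpec]
    rfl
  have e1 : e ≫ gK = g := coord_ext (by
    rw [coord_comp, hgK, hev, LaurentPolynomial.eval₂_T, zpow_one, hg.unit_spec])
  have e2 : e ≫ hK = h := coord_ext (by
    have hc : coord hK = gl (LaurentPolynomial.C (Polynomial.X (R := R))) :=
      coord_spHom _ _ _ _ coord_lineVar
    rw [coord_comp, hc, hev, LaurentPolynomial.eval₂_C]
    exact Polynomial.eval₂_X β _)
  have e3 : e ≫ pK = p := by
    refine Over.OverMorphism.ext ?_
    simp only [pK, univLine, linePr, spHom_comp]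
    exact hl
  have e4 : res e lK = hg.unit := Units.ext (by
    change e.left.appTop (gl (LaurentPolynomial.T 1)) = _
    rw [hev, LaurentPolynomial.eval₂_T, zpow_one])
  have h5 := congrArg (e ≫ ·) key
  simp only [σU.natural, e4, ← Category.assoc, comp_lift, MonObj.comp_mul, e1, e2, e3] at h5
  exact h5

/-- Local existence of equivariant lifts. -/
theorem exists_local [Etale f.left] (hf : IsScaledMap σU σX f) (Φ : A S ⊗ sp r ⟶ X) (hΦ : IsScaled σX Φ)
    (s : sp r ⟶ U) (hs : s ≫ f = zeroSec (sp r) ≫ Φ)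
    (hfix : ∀ (T : Over S) (t : T ⟶ sp r) (c : Γ(T.left, ⊤)ˣ), σU.op c (t ≫ s) = t ≫ s)
    {S₀ : S.Opens} (hS₀ : IsAffineOpen S₀) (hr : ∀ p, r p ∈ S₀) (hU₀ : IsAffineOpen (U.hom ⁻¹ᵁ S₀))
    {V : X.left.Opens} (hV : IsAffineOpen V) {W : U.left.Opens} (hW : IsAffineOpen W)
    (e : W ≤ f.left ⁻¹ᵁ V) (hsW : ∀ p, s.left p ∈ W) :
    ∃ Ψ : A S ⊗ sp r ⟶ U, IsScaled σU Ψ ∧ Ψ ≫ f = Φ ∧ zeroSec (sp r) ≫ Ψ = s := by
  obtain ⟨d, hd, hd0⟩ := exists_formal Φ s hs hV hW e hsW
  have htw := twist_identity hf Φ hΦ s hfix d hd hd0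
  obtain ⟨ψ, hψ⟩ := exists_poly hS₀ hr hU₀ d htw
  haveI := isIso_chart r
  let Ψ : A S ⊗ sp r ⟶ U := inv (chart r) ≫ ψ
  have hΨd : serToLine r ≫ chart r ≫ Ψ = d := by
    rw [IsIso.hom_inv_id_assoc, hψ]
  have hΨ : IsScaled σU Ψ := isScaled_chartInv hr hU₀ Ψ (by rw [hΨd, htw])
  have hΨ0 : zeroSec (sp r) ≫ Ψ = s := by
    rw [← serZero_chart, Category.assoc, Category.assoc, hΨd, hd0]
  refine ⟨Ψ, hΨ, ?_, hΨ0⟩
  let x : Spec (CommRingCat.of (Polynomial R)) ⟶ X.left := (chart r ≫ Ψ ≫ f).left
  let y : Spec (CommRingCat.of (Polynomial R)) ⟶ X.left := (chart r ≫ Φ).left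
  let O : (A S ⊗ sp r).left.Opens := sSup {O | O.ι ≫ (Ψ ≫ f).left = O.ι ≫ Φ.left}
  have hOeq : O.ι ≫ (Ψ ≫ f).left = O.ι ≫ Φ.left := by
    refine Scheme.hom_ext_of_forall _ _ fun x => ?_
    obtain ⟨O', hO', hxO⟩ := TopologicalSpace.Opens.mem_sSup.mp x.2
    refine ⟨O.ι ⁻¹ᵁ O', hxO, ?_⟩
    rw [← Category.assoc, ← Category.assoc, ← morphismRestrict_ι, Category.assoc, Category.assoc]
    exact congrArg ((O.ι ∣_ O') ≫ ·) hO'
  refine eq_of_eq_open (IsScaled.comp hf hΨ) hΦ O (fun p => ?_) hOeq
  let z : sp r ⟶ lineObj r := serZero r ≫ serToLine r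
  have hz : z ≫ chart r = zeroSec (sp r) := by rw [Category.assoc, serZero_chart]
  let q : Spec (CommRingCat.of (Polynomial R)) := z.left p
  have hzx : z ≫ chart r ≫ Ψ ≫ f = s ≫ f := by
    rw [← Category.assoc, hz, ← Category.assoc, hΨ0]
  have hzy : z ≫ chart r ≫ Φ = s ≫ f := by rw [← Category.assoc, hz, hs]
  have hqx : x q ∈ V := by
    change (z ≫ chart r ≫ Ψ ≫ f).left p ∈ V
    rw [hzx]
    exact e (hsW p)
  have hqy : y q ∈ V := by
    change (z ≫ chart r ≫ Φ).left p ∈ V
    rw [hzy]
    exact e (hsW p)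
  obtain ⟨_, ⟨g, rfl⟩, hgq, hgU⟩ := TopologicalSpace.Opens.isBasis_iff_nbhd.mp PrimeSpectrum.isBasis_basic_opens
    (show q ∈ x ⁻¹ᵁ V ⊓ y ⁻¹ᵁ V from ⟨hqx, hqy⟩)
  let g' : Polynomial R := g * Polynomial.C (g.coeff 0)
  have hqr : q.asIdeal = Ideal.comap ((PowerSeries.constantCoeff (R := R)).comp (toSeries R)) (show PrimeSpectrum R from p).asIdeal := rfl
  have hg' : q ∈ PrimeSpectrum.basicOpen g' := by
    have hcc : ∀ a : Polynomial R, ((PowerSeries.constantCoeff (R := R)).comp (toSeries R)) a = a.coeff 0 := fun a => by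
      simp [Polynomial.constantCoeff_coe]
    have hg0 : g.coeff 0 ∉ (show PrimeSpectrum R from p).asIdeal := by
      intro hm
      apply hgq
      rw [hqr, Ideal.mem_comap, hcc]
      exact hm
    change g' ∉ q.asIdeal
    rw [hqr, Ideal.mem_comap, hcc, Polynomial.mul_coeff_zero, Polynomial.coeff_C_zero]
    exact fun hm => ((show PrimeSpectrum R from p).isPrime.mem_or_mem hm).elim hg0 hg0
  let R1 : Type u := Localization.Away g'
  let j₀ : Spec (CommRingCat.of R1) ⟶ Spec (CommRingCat.of (Polynomial R)) :=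
    Spec.map (CommRingCat.ofHom (algebraMap (Polynomial R) R1))
  haveI : IsOpenImmersion j₀ := IsOpenImmersion.of_isLocalization (S := R1) g'
  have hj₀ : Set.range j₀ = (PrimeSpectrum.basicOpen g' : Set (PrimeSpectrum (Polynomial R))) :=
    PrimeSpectrum.localization_away_comap_range _ g'
  have hj₀V : ∀ w, j₀ w ∈ x ⁻¹ᵁ V ⊓ y ⁻¹ᵁ V := fun w => hgU
    (PrimeSpectrum.basicOpen_mul_le_left g _ ((Set.ext_iff.mp hj₀ (j₀ w)).mp ⟨w, rfl⟩))
  obtain ⟨L, _, l, π, hπ, hπinj⟩ := exists_embedding g
  have hπs : Spec.map (CommRingCat.ofHom π) ≫ j₀ =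
      Spec.map (CommRingCat.ofHom (PowerSeries.map l)) ≫ Spec.map (CommRingCat.ofHom (toSeries R)) := by
    rw [spec_comp, spec_comp]
    congr 2
    exact RingHom.ext hπ
  have hxy : Spec.map (CommRingCat.ofHom (toSeries R)) ≫ x = Spec.map (CommRingCat.ofHom (toSeries R)) ≫ y := by
    refine congrArg CommaMorphism.left (show serToLine r ≫ chart r ≫ Ψ ≫ f = serToLine r ≫ chart r ≫ Φ from ?_)
    rw [reassoc_of% hΨd, hd, Category.assoc]
  have heq : j₀ ≫ x = j₀ ≫ y := by
    refine eq_of_injective hV _ _ (fun w => (hj₀V w).1) (fun w => (hj₀V w).2) π hπinj ?_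
    rw [← Category.assoc, ← Category.assoc, hπs, Category.assoc, Category.assoc, hxy]
  haveI : IsIso (chart r).left := inferInstanceAs (IsIso ((Over.forget S).map (chart r)))
  let j := j₀ ≫ (chart r).left
  have hO' : j.opensRange.ι ≫ (Ψ ≫ f).left = j.opensRange.ι ≫ Φ.left := by
    rw [← cancel_epi j.isoOpensRange.hom, Scheme.Hom.isoOpensRange_hom_ι_assoc,
      Scheme.Hom.isoOpensRange_hom_ι_assoc, Category.assoc, Category.assoc]
    exact heq
  refine TopologicalSpace.Opens.mem_sSup.mpr ⟨j.opensRange, hO', ?_⟩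
  obtain ⟨w, hw⟩ : q ∈ Set.range j₀ := by rw [hj₀]; exact hg'
  refine ⟨w, ?_⟩
  rw [Scheme.Hom.comp_apply, hw]
  exact congrArg (fun m => m.left p) hz

end EqLiftLib
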