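import Groth.Prelude.Def_Magnet4
import Mathlib.LinearAlgebra.FreeModule.PID
import Mathlib.GroupTheory.Finiteness
import Mathlib.RingTheory.Finiteness.Basic
import Mathlib.Algebra.Module.Torsion.Free

/-!
# Functions exhibiting faces of finitely generated monoids
-/

set_option autoImplicit false
set_option linter.style.haveILetI false

namespace EqLiftLib

theorem exists_hom_ne_zero {M : Type} [AddCommGroup M] [AddGroup.FG M] (v : M)
    (hv : ∀ k : ℕ, k • v = 0 → k = 0) : ∃ h : M →+ ℤ, 0 < h v := by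
  haveI : Module.Finite ℤ M := Module.Finite.iff_addGroup_fg.mpr inferInstance
  let F := M ⧸ Submodule.torsion ℤ M
  haveI : Module.Finite ℤ F := Module.Finite.quotient ℤ _
  haveI : Module.Free ℤ F := Module.free_of_finite_type_torsion_free'
  let b := Module.Free.chooseBasis ℤ F
  have hne : Submodule.Quotient.mk (p := Submodule.torsion ℤ M) v ≠ 0 := fun h => by
    rw [Submodule.Quotient.mk_eq_zero, Submodule.mem_torsion_iff] at h
    obtain ⟨⟨a, ha⟩, hav⟩ := h
    have ha0 : a ≠ 0 := nonZeroDivisors.ne_zero ha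
    refine ha0 (Int.natAbs_eq_zero.mp (hv a.natAbs ?_))
    have hav' : a • v = 0 := hav
    rw [← natCast_zsmul]
    rcases Int.natAbs_eq a with h' | h'
    · rwa [← h']
    · rw [h', neg_zsmul, neg_eq_zero] at hav'
      exact hav'
  obtain ⟨i, hi⟩ : ∃ i, b.repr (Submodule.Quotient.mk v) i ≠ 0 := by
    by_contra! h
    exact hne (b.repr.injective (Finsupp.ext fun i => by rw [h i, map_zero]; rfl))
  let h0 : M →+ ℤ := ((Finsupp.applyAddHom i).comp b.repr.toLinearMap.toAddMonoidHom).comp
    (Submodule.torsion ℤ M).mkQ.toAddMonoidHom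
  have hh : h0 v ≠ 0 := hi
  rcases lt_or_gt_of_ne hh with h | h
  · exact ⟨-h0, by simpa using h⟩
  · exact ⟨h0, h⟩

/-- Gordan's lemma on positive functionals. -/
theorem exists_hom_pos : ∀ (k : ℕ) {M : Type} [AddCommGroup M] [AddGroup.FG M] (v : Fin k → M),
    (∀ c : Fin k → ℕ, ∑ i, c i • v i = 0 → c = 0) → ∃ φ : M →+ ℤ, ∀ i, 0 < φ (v i) := by
  intro k
  induction k with
  | zero => exact fun _ _ => ⟨0, fun i => i.elim0⟩
  | succ k ih =>
    intro M _ _ v hv
    have hsum : ∀ (a : ℕ) (c : Fin k → ℕ), a • v 0 + ∑ i, c i • v i.succ = 0 → a = 0 ∧ c = 0 := fun a c h => by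
      have h' := hv (Fin.cons a c) (by rw [Fin.sum_univ_succ]; simpa using h)
      exact ⟨by simpa using congrFun h' 0, funext fun i => by simpa using congrFun h' i.succ⟩
    obtain ⟨f, hf⟩ := ih (fun i => v i.succ) fun c hc => (hsum 0 c (by simpa using hc)).2
    rcases lt_or_ge 0 (f (v 0)) with h0 | h0
    · exact ⟨f, fun i => Fin.cases h0 hf i⟩
    let K : AddSubgroup M := AddSubgroup.zmultiples (v 0)
    obtain ⟨g, hg⟩ := ih (fun i => QuotientAddGroup.mk' K (v i.succ)) fun c hc => by
      have hmem : ∑ i, c i • v i.succ ∈ K := by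
        rw [← QuotientAddGroup.eq_zero_iff]
        simpa [map_sum, map_nsmul] using hc
      obtain ⟨a, ha⟩ := AddSubgroup.mem_zmultiples_iff.mp hmem
      rcases le_or_gt a 0 with ha0 | ha0
      · refine (hsum (-a).toNat c ?_).2
        rw [← natCast_zsmul (v 0), Int.toNat_of_nonneg (by omega), ← ha, neg_zsmul, neg_add_cancel]
      · have h1 := congrArg f ha
        simp only [map_zsmul, map_sum, map_nsmul] at h1
        by_contra hc0
        obtain ⟨j, hj⟩ : ∃ j, c j ≠ 0 := Function.ne_iff.mp hc0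
        have hpos : 0 < ∑ i, c i • f (v i.succ) :=
          Finset.sum_pos' (fun i _ => nsmul_nonneg (hf i).le _)
            ⟨j, Finset.mem_univ _, nsmul_pos (hf j) hj⟩
        have hle : a • f (v 0) ≤ 0 := by
          rw [zsmul_eq_mul]
          exact mul_nonpos_of_nonneg_of_nonpos (by exact_mod_cast ha0.le) h0
        omega
    obtain ⟨h, hh⟩ := exists_hom_ne_zero (v 0) fun a ha => (hsum a 0 (by simpa using ha)).1
    let g' : M →+ ℤ := g.comp (QuotientAddGroup.mk' K)
    have hg0 : g' (v 0) = 0 := by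
      change g (QuotientAddGroup.mk' K (v 0)) = 0
      rw [show QuotientAddGroup.mk' K (v 0) = 0 from
        (QuotientAddGroup.eq_zero_iff _).mpr (AddSubgroup.mem_zmultiples _), map_zero]
    let C : ℤ := ∑ i : Fin k, |h (v i.succ)| + 1
    refine ⟨C • g' + h, fun i => ?_⟩
    rw [AddMonoidHom.add_apply, AddMonoidHom.smul_apply, smul_eq_mul]
    refine Fin.cases ?_ (fun j => ?_) i
    · rw [hg0]
      simpa using hh
    · have h1 : 1 ≤ g' (v j.succ) := hg j
      have h2 : |h (v j.succ)| ≤ ∑ i : Fin k, |h (v i.succ)| :=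
        Finset.single_le_sum (f := fun i : Fin k => |h (v i.succ)|) (fun i _ => abs_nonneg _) (Finset.mem_univ j)
      have hC : 0 ≤ C := by
        have : 0 ≤ ∑ i : Fin k, |h (v i.succ)| := Finset.sum_nonneg fun i _ => abs_nonneg _
        omega
      have h3 : C * 1 ≤ C * g' (v j.succ) := mul_le_mul_of_nonneg_left h1 hC
      have h4 := neg_abs_le (h (v j.succ))
      omega

/-- A face of a finitely generated monoid is the zero set of an additive function. -/
theorem exists_face_fun {M : Type} [AddCommGroup M] [AddGroup.FG M] {N F : AddSubmonoid M}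
    (hN : N.FG) (hF : Magnet.IsFace N F) :
    ∃ φ : M →+ ℤ, (∀ n ∈ N, 0 ≤ φ n) ∧ ∀ n ∈ N, φ n = 0 ↔ n ∈ F := by
  classical
  obtain ⟨G, hG⟩ := hN
  let G' : Finset M := G.filter fun x => x ∉ F
  let v : Fin G'.card → M := fun i => (G'.equivFin.symm i : M)
  have hvN : ∀ i, v i ∈ N := fun i => by
    rw [← hG]
    exact AddSubmonoid.subset_closure (Finset.mem_filter.mp (G'.equivFin.symm i).2).1
  have hvF : ∀ i, v i ∉ F := fun i => (Finset.mem_filter.mp (G'.equivFin.symm i).2).2
  let K : AddSubgroup M := AddSubgroup.closure (F : Set M)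
  obtain ⟨g, hg⟩ := exists_hom_pos G'.card (fun i => QuotientAddGroup.mk' K (v i)) fun c hc => by
    have hmem : ∑ i, c i • v i ∈ K := by
      rw [← QuotientAddGroup.eq_zero_iff]
      simpa [map_sum, map_nsmul] using hc
    obtain ⟨a, ha, b, hb, hab⟩ : ∃ a ∈ F, ∃ b ∈ F, ∑ i, c i • v i = a - b := by
      generalize ∑ i, c i • v i = z at hmem ⊢
      induction hmem using AddSubgroup.closure_induction with
      | mem x hx => exact ⟨x, hx, 0, F.zero_mem, by simp⟩
      | zero => exact ⟨0, F.zero_mem, 0, F.zero_mem, by simp⟩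
      | add x y _ _ hx hy =>
        obtain ⟨a, ha, b, hb, rfl⟩ := hx
        obtain ⟨a', ha', b', hb', rfl⟩ := hy
        exact ⟨a + a', F.add_mem ha ha', b + b', F.add_mem hb hb', by abel⟩
      | neg x _ hx =>
        obtain ⟨a, ha, b, hb, rfl⟩ := hx
        exact ⟨b, hb, a, ha, by abel⟩
    have hs : ∑ i, c i • v i ∈ N := N.sum_mem fun i _ => N.nsmul_mem (hvN i) _
    have hs' : ∑ i, c i • v i ∈ F := (hF.mem_of_add_mem _ hs b (hF.le hb) (by rw [hab]; simpa using ha)).1
    funext j
    by_contra hj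
    obtain ⟨m, hm⟩ : ∃ m, c j = m + 1 := ⟨c j - 1, by have := Nat.pos_of_ne_zero hj; omega⟩
    rw [← Finset.add_sum_erase _ _ (Finset.mem_univ j), hm, succ_nsmul] at hs'
    have h1 := (hF.mem_of_add_mem _ (N.add_mem (N.nsmul_mem (hvN j) m) (hvN j)) _
      (N.sum_mem fun i _ => N.nsmul_mem (hvN i) _) hs').1
    exact hvF j (hF.mem_of_add_mem _ (N.nsmul_mem (hvN j) m) _ (hvN j) h1).2
  let φ : M →+ ℤ := g.comp (QuotientAddGroup.mk' K)
  have hφF : ∀ x ∈ F, φ x = 0 := fun x hx => by
    change g (QuotientAddGroup.mk' K x) = 0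
    rw [show QuotientAddGroup.mk' K x = 0 from
      (QuotientAddGroup.eq_zero_iff _).mpr (AddSubgroup.subset_closure hx), map_zero]
  have key : ∀ n ∈ N, 0 ≤ φ n ∧ (φ n = 0 → n ∈ F) := fun n hn => by
    rw [← hG] at hn
    induction hn using AddSubmonoid.closure_induction with
    | mem x hx =>
      by_cases hxF : x ∈ F
      · exact ⟨(hφF x hxF).ge, fun _ => hxF⟩
      · have h := hg (G'.equivFin ⟨x, Finset.mem_filter.mpr ⟨hx, hxF⟩⟩)
        have hpos : 0 < φ x := by
          simp only [v, Equiv.symm_apply_apply] at h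
          exact h
        exact ⟨hpos.le, fun h0 => absurd h0 hpos.ne'⟩
    | zero => exact ⟨by simp, fun _ => F.zero_mem⟩
    | add x y _ _ hx hy =>
      refine ⟨by rw [map_add]; exact add_nonneg hx.1 hy.1, fun h => ?_⟩
      rw [map_add] at h
      exact F.add_mem (hx.2 (by omega)) (hy.2 (by omega))
  exact ⟨φ, fun n hn => (key n hn).1, fun n hn => ⟨(key n hn).2, hφF n⟩⟩

end EqLiftLib
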