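import Groth.Agent.EqLiftLib.Union
import Groth.Prelude.Def_Magnet3

/-!
# Equivariant families over diagonalizable monoids
-/

set_option autoImplicit false
set_option linter.style.haveILetI false
universe u

open CategoryTheory CategoryTheory.Limits MonoidalCategory CartesianMonoidalCategory MonObj
  AlgebraicGeometry Opposite
open Magnet
open AttrPtLib (chi chi_ext chi_map)

noncomputable section

namespace EqLiftLib

set_option backward.isDefEq.respectTransparency.types true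

variable {S : Scheme.{u}} {M : Type} [AddCommMonoid M] {X U T : Over S} {N L : AddSubmonoid M}

theorem lift_subAct {T : Over S} {N : AddSubmonoid M} (g : T ⟶ AMonS S M) (b : T ⟶ AMonS S ↥N) :
    lift g b ≫ (subAct S M N).act = (g ≫ AMonS.map S N.subtype) * b := by
  rw [subAct, MonAct.lift_restrict_act, MonAct.lift_regular_act]

/-- Equivariance of families over a product with the trivial action. -/
abbrev IsEqvFam (a : MonAct (AMonS S M) X) {N : AddSubmonoid M} {T : Over S} (γ : AMonS S ↥N ⊗ T ⟶ X) : Prop :=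
  MonAct.IsEquivariant ((subAct S M N).prod (MonAct.trivial _ T)) a γ

/-- Acting, then applying a family. -/
def actFst {N : AddSubmonoid M} (γ : AMonS S ↥N ⊗ T ⟶ X) : AMonS S ↥N ⊗ (AMonS S M ⊗ T) ⟶ X :=
  lift (lift (snd _ _ ≫ fst _ _) (fst _ _) ≫ (subAct S M N).act) (snd _ _ ≫ snd _ _) ≫ γ

/-- Applying a family, then acting. -/
def actSnd (a : MonAct (AMonS S M) X) {N : AddSubmonoid M} (γ : AMonS S ↥N ⊗ T ⟶ X) :
    AMonS S ↥N ⊗ (AMonS S M ⊗ T) ⟶ X :=
  lift (snd _ _ ≫ fst _ _) (lift (fst _ _) (snd _ _ ≫ snd _ _) ≫ γ) ≫ a.act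

theorem lift_actFst {γ : AMonS S ↥N ⊗ T ⟶ X} {T' : Over S} (g : T' ⟶ AMonS S M) (b : T' ⟶ AMonS S ↥N)
    (t : T' ⟶ T) : lift b (lift g t) ≫ actFst γ = lift (lift g b ≫ (subAct S M N).act) t ≫ γ := by
  simp only [actFst, ← Category.assoc, comp_lift, lift_fst, lift_snd]

theorem lift_actSnd (a : MonAct (AMonS S M) X) {γ : AMonS S ↥N ⊗ T ⟶ X} {T' : Over S} (g : T' ⟶ AMonS S M)
    (b : T' ⟶ AMonS S ↥N) (t : T' ⟶ T) :
    lift b (lift g t) ≫ actSnd a γ = lift g (lift b t ≫ γ) ≫ a.act := by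
  simp only [actSnd, ← Category.assoc, comp_lift, lift_fst, lift_snd]

theorem isEqvFam_iff (a : MonAct (AMonS S M) X) (γ : AMonS S ↥N ⊗ T ⟶ X) :
    IsEqvFam a γ ↔ actFst γ = actSnd a γ := by
  constructor
  · intro h
    apply hom_ext_lift₂
    intro T' b p
    rw [← lift_comp_fst_snd p, lift_actFst, lift_actSnd]
    exact (MonAct.mem_eqvHom_iff γ).mp h T' _ _ _
  · intro h
    rw [IsEqvFam, MonAct.mem_eqvHom_iff]
    intro T' g b t
    rw [← lift_actFst, h, lift_actSnd]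

theorem inc_actFst (h : N ≤ L) (γ : AMonS S ↥N ⊗ T ⟶ X) :
    inc h (AMonS S M ⊗ T) ≫ actFst γ = actFst (inc h T ≫ γ) := by
  apply hom_ext_lift₂
  intro T' b p
  rw [← lift_comp_fst_snd p, inc, lift_whiskerRight_assoc, lift_actFst, lift_actFst, inc,
    lift_whiskerRight_assoc, lift_subAct (N := N) (p ≫ fst _ _) (b ≫ AMonS.map S (AddSubmonoid.inclusion h)),
    lift_subAct (N := L) (p ≫ fst _ _) b, MonObj.mul_comp]
  simp only [Category.assoc, ← AMonS.map_comp]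
  rfl

theorem inc_actSnd (a : MonAct (AMonS S M) X) (h : N ≤ L) (γ : AMonS S ↥N ⊗ T ⟶ X) :
    inc h (AMonS S M ⊗ T) ≫ actSnd a γ = actSnd a (inc h T ≫ γ) := by
  apply hom_ext_lift₂
  intro T' b p
  rw [← lift_comp_fst_snd p, inc, lift_whiskerRight_assoc, lift_actSnd, lift_actSnd, inc, lift_whiskerRight_assoc]

theorem IsEqvFam.inc {a : MonAct (AMonS S M) X} (h : N ≤ L) {γ : AMonS S ↥N ⊗ T ⟶ X} (hγ : IsEqvFam a γ) :
    IsEqvFam a (EqLiftLib.inc h T ≫ γ) := by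
  rw [isEqvFam_iff] at hγ ⊢
  rw [← inc_actFst, ← inc_actSnd, hγ]

variable {J : Type} [Preorder J] [IsDirected J (· ≤ ·)] [Nonempty J]

theorem Exhaustion.exists_eqv_factor [IsAffine T.left] [LocallyOfFinitePresentation X.hom]
    (E : Exhaustion L J) {a : MonAct (AMonS S M) X} {γ : AMonS S ↥L ⊗ T ⟶ X} (hγ : IsEqvFam a γ) :
    ∃ (j : J) (γ' : AMonS S ↥(E.N j) ⊗ T ⟶ X), IsEqvFam a γ' ∧ EqLiftLib.inc (E.le j) T ≫ γ' = γ := by
  obtain ⟨j, γ', hj⟩ := E.exists_factor T γ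
  haveI := isAffine_amonS_tensor (S := S) M T
  obtain ⟨k, hjk, hk⟩ := E.exists_eq (AMonS S M ⊗ T) (actFst γ') (actSnd a γ') (by
    rw [inc_actFst, inc_actSnd, hj]
    exact (isEqvFam_iff a γ).mp hγ)
  refine ⟨k, EqLiftLib.inc (E.mono hjk) T ≫ γ', ?_, ?_⟩
  · rw [isEqvFam_iff, ← inc_actFst, ← inc_actSnd, hk]
  · rw [← Category.assoc, inc_comp, hj]

end EqLiftLib
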