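import Groth.Agent.EqLiftLib.Main
import Groth.Agent.EqLiftLib.Fam
import Groth.Agent.EqLiftLib.FaceFun
import Groth.Prelude.Def_Magnet4

/-!
# Attractors along a face and étale equivariant morphisms: the finitely generated case
-/

set_option autoImplicit false
set_option linter.style.haveILetI false
universe u

open CategoryTheory CategoryTheory.Limits MonoidalCategory CartesianMonoidalCategory MonObj
  AlgebraicGeometry Opposite
open Magnet
open BBLib (coord zero zeroSec)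
open AttrPtLib (chi chi_ext chi_mul chi_map chi_comp exists_chi)

noncomputable section

namespace EqLiftLib

variable {S : Scheme.{u}} {M : Type} [AddCommGroup M]

theorem chi_one {T : Over S} {M' : Type} [AddCommMonoid M'] (m : M') :
    chi (1 : T ⟶ AMonS S M') m = 1 := by
  obtain ⟨g, hg⟩ := exists_chi (S := S) (M := M') T 1
  have h := chi_mul g (1 : T ⟶ AMonS S M') m
  rw [_root_.mul_one, hg, MonoidHom.one_apply, _root_.one_mul] at h
  exact h.symm

theorem pt_mul_left_comm {T : Over S} {M' : Type} [AddCommMonoid M'] (a b c : T ⟶ AMonS S M') :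
    a * (b * c) = b * (a * c) :=
  chi_ext fun m => by simp only [chi_mul]; rw [mul_left_comm]

theorem pt_mul_comm {T : Over S} {M' : Type} [AddCommMonoid M'] (a b : T ⟶ AMonS S M') :
    a * b = b * a :=
  chi_ext fun m => by simp only [chi_mul]; rw [mul_comm]

theorem chi_faceMap {T : Over S} {N F : AddSubmonoid M} (hF : IsFace N F) (g : T ⟶ AMonS S ↥F) (n : ↥N) :
    chi (g ≫ AMonS.faceMap S hF) n =
      @dite _ ((n : M) ∈ F) (Classical.propDecidable _) (fun h => chi g ⟨n, h⟩) fun _ => 0 := by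
  have e : AttrPtLib.adj (g ≫ AMonS.faceMap S hF) = AttrPtLib.adj g ≫ AMon.faceMap AttrPtLib.Z.{u} hF :=
    AttrPtLib.adj_map g _
  rw [chi, e, AttrPtLib.ringPt_comp_spec (AttrPtLib.adj g) (faceAlgHom AttrPtLib.Z.{u} hF).toRingHom
    (AttrPtLib.adj g ≫ AMon.faceMap AttrPtLib.Z.{u} hF) (by rw [Over.comp_left, AMon.faceMap_left]; rfl)]
  change AttrPtLib.ringPt (AttrPtLib.adj g) (faceAlgHom AttrPtLib.Z.{u} hF
    (MonoidAlgebra.single (Multiplicative.ofAdd n) 1)) = _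
  by_cases h : (n : M) ∈ F
  · rw [dif_pos h, faceAlgHom_single_of_mem _ hF n h]
    rfl
  · rw [dif_neg h, faceAlgHom_single_of_not_mem _ hF n h, map_zero]

variable (φ : M →+ ℤ)

/-- The point of the torus attached to a unit and a cocharacter. -/
def wpt {T : Over S} (c : Γ(T.left, ⊤)ˣ) : T ⟶ AMonS S M :=
  (exists_chi (S := S) T
    ({ toFun := fun m => ((c ^ φ (Multiplicative.toAdd m) : Γ(T.left, ⊤)ˣ) : Γ(T.left, ⊤))
       map_one' := by simp
       map_mul' := fun a b => by simp [zpow_add] } : Multiplicative M →* Γ(T.left, ⊤))).choose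

theorem chi_wpt {T : Over S} (c : Γ(T.left, ⊤)ˣ) (m : M) :
    chi (wpt φ c) m = ((c ^ φ m : Γ(T.left, ⊤)ˣ) : Γ(T.left, ⊤)) :=
  (exists_chi (S := S) T
    ({ toFun := fun m => ((c ^ φ (Multiplicative.toAdd m) : Γ(T.left, ⊤)ˣ) : Γ(T.left, ⊤))
       map_one' := by simp
       map_mul' := fun a b => by simp [zpow_add] } : Multiplicative M →* Γ(T.left, ⊤))).choose_spec m

/-- The scaling attached to an action and a cocharacter. -/
def ofAct {X : Over S} (a : MonAct (AMonS S M) X) : Scaling X where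
  op c x := lift (wpt φ c) x ≫ a.act
  one {T} x := by
    rw [show wpt φ (1 : Γ(T.left, ⊤)ˣ) = (1 : T ⟶ AMonS S M) from
      chi_ext fun m => by rw [chi_wpt, chi_one, one_zpow, Units.val_one], a.lift_one_act]
  mul {T} c d x := by
    rw [show wpt φ (c * d) = wpt (S := S) φ c * wpt φ d from
      chi_ext fun m => by rw [chi_mul, chi_wpt, chi_wpt, chi_wpt, mul_zpow, Units.val_mul], a.lift_mul_act]
  natural {T T'} u c x := by
    rw [show wpt φ (res u c) = u ≫ wpt (S := S) φ c from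
      chi_ext fun m => by rw [chi_comp, chi_wpt, chi_wpt, ← map_zpow]; rfl, ← Category.assoc, comp_lift]

theorem ofAct_op {X : Over S} (a : MonAct (AMonS S M) X) {T : Over S} (c : Γ(T.left, ⊤)ˣ) (x : T ⟶ X) :
    (ofAct φ a).op c x = lift (wpt φ c) x ≫ a.act := rfl

theorem isScaledMap_ofAct {X U : Over S} {aU : MonAct (AMonS S M) U} {aX : MonAct (AMonS S M) X} {f : U ⟶ X}
    (hf : MonAct.IsEquivariant aU aX f) : IsScaledMap (ofAct φ aU) (ofAct φ aX) f := fun T c x => by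
  rw [ofAct_op, ofAct_op, Category.assoc, (MonAct.isEquivariant_iff _ _ _).mp hf]

variable {N Q : AddSubmonoid M}

/-- The cocharacter restricted to a monoid on which it is nonnegative. -/
def natHom (hpos : ∀ n ∈ N, 0 ≤ φ n) : ↥N →+ ℕ where
  toFun n := (φ n).toNat
  map_zero' := by simp
  map_add' a b := by
    rw [AddSubmonoid.coe_add, map_add, Int.toNat_add (hpos _ a.2) (hpos _ b.2)]

/-- The line in a diagonalizable monoid attached to a cocharacter. -/
def psi (hpos : ∀ n ∈ N, 0 ≤ φ n) : A S ⟶ AMonS S ↥N := AMonS.map S (natHom φ hpos)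

instance (hpos : ∀ n ∈ N, 0 ≤ φ n) : IsMonHom (psi (S := S) φ hpos) := AMonS.map_isMonHom S _

theorem chi_psi (hpos : ∀ n ∈ N, 0 ≤ φ n) {T : Over S} (g : T ⟶ A S) (n : ↥N) :
    chi (g ≫ psi φ hpos) n = coord g ^ (φ n).toNat := by
  rw [psi, chi_map, BBLib.chi_nat]
  rfl

theorem psi_unit (hpos : ∀ n ∈ N, 0 ≤ φ n) {T : Over S} (g : T ⟶ A S) (hg : IsUnit (coord g)) :
    g ≫ psi φ hpos = wpt φ hg.unit ≫ AMonS.map S N.subtype :=
  chi_ext fun n => by
    rw [chi_psi, chi_map, chi_wpt]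
    conv_rhs => rw [AddSubmonoid.subtype_apply, ← Int.toNat_of_nonneg (hpos _ n.2), zpow_natCast]
    rw [Units.val_pow_eq_pow_val, hg.unit_spec]

/-- The map moving a point of a diagonalizable monoid along the line. -/
def alpha (hpos : ∀ n ∈ N, 0 ≤ φ n) (T : Over S) : A S ⊗ (AMonS S ↥N ⊗ T) ⟶ AMonS S ↥N ⊗ T :=
  lift ((fst _ _ ≫ psi φ hpos) * (snd _ _ ≫ fst _ _)) (snd _ _ ≫ snd _ _)

theorem lift_alpha (hpos : ∀ n ∈ N, 0 ≤ φ n) {T T' : Over S} (g : T' ⟶ A S) (p : T' ⟶ AMonS S ↥N ⊗ T) :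
    lift g p ≫ alpha φ hpos T = lift ((g ≫ psi φ hpos) * (p ≫ fst _ _)) (p ≫ snd _ _) := by
  rw [alpha, comp_lift, MonObj.comp_mul, ← Category.assoc, lift_fst, ← Category.assoc, lift_snd,
    ← Category.assoc, lift_snd]

theorem atOne_alpha (hpos : ∀ n ∈ N, 0 ≤ φ n) {T Z : Over S} (γ : AMonS S ↥N ⊗ T ⟶ Z) :
    atOne (alpha φ hpos T ≫ γ) = γ := by
  rw [atOne, ← Category.assoc, lift_alpha, MonObj.one_comp, _root_.one_mul, Category.id_comp, Category.id_comp,
    lift_fst_snd, Category.id_comp]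

theorem zeroSec_alpha (hQ : IsFace N Q) (hpos : ∀ n ∈ N, 0 ≤ φ n) (hzero : ∀ n ∈ N, φ n = 0 ↔ n ∈ Q)
    (T : Over S) :
    zeroSec (AMonS S ↥N ⊗ T) ≫ alpha φ hpos T =
      (AMonS.map S (AddSubmonoid.inclusion hQ.le) ▷ T) ≫ (AMonS.faceMap S hQ ▷ T) := by
  rw [zeroSec, lift_alpha, Category.id_comp, Category.id_comp, ← comp_whiskerRight]
  apply CartesianMonoidalCategory.hom_ext
  · rw [lift_fst, whiskerRight_fst]
    refine chi_ext fun n => ?_
    rw [chi_mul, chi_psi, BBLib.coord_zero, ← Category.assoc, chi_faceMap hQ]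
    by_cases h : (n : M) ∈ Q
    · rw [dif_pos h, chi_map, (hzero _ n.2).mpr h, Int.toNat_zero, pow_zero, _root_.one_mul]
      rfl
    · rw [dif_neg h, zero_pow, MulZeroClass.zero_mul]
      intro h0
      exact h ((hzero _ n.2).mp (le_antisymm (Int.toNat_eq_zero.mp h0) (hpos _ n.2)))
  · rw [lift_snd, whiskerRight_snd]

theorem isScaled_alpha (hpos : ∀ n ∈ N, 0 ≤ φ n) {X T : Over S} {a : MonAct (AMonS S M) X}
    (γ : AMonS S ↥N ⊗ T ⟶ X)
    (hγ : MonAct.IsEquivariant ((subAct S M N).prod (MonAct.trivial _ T)) a γ) :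
    IsScaled (ofAct φ a) (alpha φ hpos T ≫ γ) := by
  intro T' g h p hg
  rw [← Category.assoc, ← Category.assoc, lift_alpha, lift_alpha, ofAct_op, MonObj.mul_comp, _root_.mul_assoc,
    psi_unit φ hpos g hg, ← lift_subAct]
  exact (MonAct.mem_eqvHom_iff γ).mp hγ _ _ _ _

/-- Equivariance of a family on points. -/
theorem eqv_apply {N : AddSubmonoid M} {X T : Over S} {a : MonAct (AMonS S M) X} {γ : AMonS S ↥N ⊗ T ⟶ X}
    (hγ : MonAct.IsEquivariant ((subAct S M N).prod (MonAct.trivial _ T)) a γ) {T' : Over S}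
    (g : T' ⟶ AMonS S M) (b : T' ⟶ AMonS S ↥N) (t : T' ⟶ T) :
    lift g (lift b t ≫ γ) ≫ a.act = lift ((g ≫ AMonS.map S N.subtype) * b) t ≫ γ := by
  rw [← lift_subAct g b]
  exact ((MonAct.mem_eqvHom_iff γ).mp hγ T' g b t).symm

variable {X U : Over S} {aX : MonAct (AMonS S M) X} {aU : MonAct (AMonS S M) U} {f : U ⟶ X} {T : Over S}

theorem fixed_face (hQ : IsFace N Q) (hzero : ∀ n ∈ N, φ n = 0 ↔ n ∈ Q) {u : AMonS S ↥Q ⊗ T ⟶ U}
    (hu : MonAct.IsEquivariant ((subAct S M Q).prod (MonAct.trivial _ T)) aU u) {T' : Over S}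
    (c : Γ(T'.left, ⊤)ˣ) (p : T' ⟶ AMonS S ↥Q ⊗ T) : (ofAct φ aU).op c (p ≫ u) = p ≫ u := by
  rw [ofAct_op, ← lift_comp_fst_snd p, eqv_apply hu,
    show wpt (S := S) φ c ≫ AMonS.map S Q.subtype = (1 : T' ⟶ AMonS S ↥Q) from chi_ext fun q => by
      rw [chi_map, chi_wpt, chi_one, AddSubmonoid.subtype_apply, (hzero _ (hQ.le q.2)).mpr q.2, zpow_zero,
        Units.val_one], _root_.one_mul]

/-- Uniqueness of extensions from a face. -/
theorem eq_of_face [AddGroup.FG M] (hQ : IsFace N Q) (hN : N.FG)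
    [FormallyUnramified f.left] [LocallyOfFiniteType f.left] {δ₁ δ₂ : AMonS S ↥N ⊗ T ⟶ U}
    (h₁ : MonAct.IsEquivariant ((subAct S M N).prod (MonAct.trivial _ T)) aU δ₁)
    (h₂ : MonAct.IsEquivariant ((subAct S M N).prod (MonAct.trivial _ T)) aU δ₂)
    (hf : δ₁ ≫ f = δ₂ ≫ f) (h0 : (AMonS.faceMap S hQ ▷ T) ≫ δ₁ = (AMonS.faceMap S hQ ▷ T) ≫ δ₂) :
    δ₁ = δ₂ := by
  obtain ⟨φ, hpos, hzero⟩ := exists_face_fun hN hQ
  have h := eq_of_comp_eq f (isScaled_alpha φ hpos δ₁ h₁) (isScaled_alpha φ hpos δ₂ h₂)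
    (by rw [Category.assoc, Category.assoc, hf])
    (by rw [← Category.assoc, ← Category.assoc, zeroSec_alpha φ hQ hpos hzero, Category.assoc, Category.assoc, h0])
  rw [← atOne_alpha φ hpos δ₁, ← atOne_alpha φ hpos δ₂, h]

/-- Existence of extensions from a face. -/
theorem exists_face [AddGroup.FG M] [Etale f.left] [IsAffineHom U.hom] (hf : MonAct.IsEquivariant aU aX f)
    (hQ : IsFace N Q) (hN : N.FG) (γ : AMonS S ↥N ⊗ T ⟶ X) (u : AMonS S ↥Q ⊗ T ⟶ U)
    (hγ : MonAct.IsEquivariant ((subAct S M N).prod (MonAct.trivial _ T)) aX γ)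
    (hu : MonAct.IsEquivariant ((subAct S M Q).prod (MonAct.trivial _ T)) aU u)
    (hcomp : u ≫ f = (AMonS.faceMap S hQ ▷ T) ≫ γ) :
    ∃ δ : AMonS S ↥N ⊗ T ⟶ U, MonAct.IsEquivariant ((subAct S M N).prod (MonAct.trivial _ T)) aU δ ∧
      δ ≫ f = γ ∧ (AMonS.faceMap S hQ ▷ T) ≫ δ = u := by
  obtain ⟨φ, hpos, hzero⟩ := exists_face_fun hN hQ
  let r : AMonS S ↥N ⟶ AMonS S ↥Q := AMonS.map S (AddSubmonoid.inclusion hQ.le)
  have hs : ((r ▷ T) ≫ u) ≫ f = zeroSec _ ≫ alpha φ hpos T ≫ γ := by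
    rw [Category.assoc, hcomp, ← Category.assoc (zeroSec _), zeroSec_alpha φ hQ hpos hzero, Category.assoc]
  obtain ⟨Ψ, ⟨hΨ, hΨf, hΨ0⟩, -⟩ := existsUnique_lift (isScaledMap_ofAct φ hf) (alpha φ hpos T ≫ γ)
    (isScaled_alpha φ hpos γ hγ) ((r ▷ T) ≫ u) hs
    fun T' t c => by rw [← Category.assoc]; exact fixed_face φ hQ hzero hu c _
  refine ⟨atOne Ψ, ?_, ?_, ?_⟩
  · rw [MonAct.mem_eqvHom_iff]
    intro T' g b t
    let p₁ : T' ⟶ AMonS S ↥N ⊗ T := lift (lift g b ≫ (subAct S M N).act) t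
    let p₀ : T' ⟶ AMonS S ↥N ⊗ T := lift b t
    let Y₀ : A S ⊗ T' ⟶ U := (A S ◁ p₀) ≫ Ψ
    let Y₂ : A S ⊗ T' ⟶ U := lift (snd _ _ ≫ g) Y₀ ≫ aU.act
    have hY₂ : IsScaled (ofAct φ aU) Y₂ := fun R x y q hx => by
      have h := (hΨ.restrict p₀) R x y q hx
      simp only [Y₂, ← Category.assoc, comp_lift, lift_snd] at h ⊢
      simp only [Y₀, ← Category.assoc] at h ⊢
      rw [h, ofAct_op, ofAct_op, ← aU.lift_mul_act, ← aU.lift_mul_act, pt_mul_comm]
    have hf' : Y₂ ≫ f = ((A S ◁ p₁) ≫ Ψ) ≫ f := by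
      simp only [Y₂, Y₀, Category.assoc]
      rw [(MonAct.isEquivariant_iff _ _ _).mp hf, Category.assoc, hΨf]
      rw [← lift_comp_fst_snd ((A S ◁ p₀) : A S ⊗ T' ⟶ _), ← lift_comp_fst_snd ((A S ◁ p₁) : A S ⊗ T' ⟶ _)]
      simp only [whiskerLeft_fst, whiskerLeft_snd]
      rw [← Category.assoc (lift _ _), ← Category.assoc (lift _ _), lift_alpha, lift_alpha,
        eqv_apply hγ]
      simp only [p₀, p₁, Category.assoc, lift_fst, lift_snd, lift_subAct, MonObj.comp_mul]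
      rw [pt_mul_left_comm]
    have h0 : zeroSec T' ≫ Y₂ = zeroSec T' ≫ (A S ◁ p₁) ≫ Ψ := by
      rw [← Category.assoc (zeroSec T') (A S ◁ p₁), zeroSec_whiskerLeft, Category.assoc, hΨ0]
      simp only [Y₂, Y₀, ← Category.assoc, comp_lift]
      rw [zeroSec_whiskerLeft, Category.assoc p₀, hΨ0]
      simp only [zeroSec, lift_snd, Category.id_comp, p₀, p₁, Category.assoc, lift_whiskerRight_assoc]
      rw [eqv_apply hu, ← Category.assoc (lift g b), lift_subAct g b, MonObj.mul_comp, Category.assoc,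
        ← AMonS.map_comp]
      rfl
    have key := congrArg atOne (eq_of_comp_eq (σU := ofAct φ aU) f hY₂ (hΨ.restrict p₁) hf' h0)
    have e : ∀ p : T' ⟶ AMonS S ↥N ⊗ T, atOne ((A S ◁ p) ≫ Ψ) = p ≫ atOne Ψ := fun p => by
      rw [atOne, lift_whiskerLeft_assoc, Category.id_comp, comp_atOne]
    rw [e] at key
    change p₁ ≫ atOne Ψ = lift g (p₀ ≫ atOne Ψ) ≫ aU.act
    rw [← key, ← e, atOne, atOne]
    simp only [Y₂, Y₀, ← Category.assoc, comp_lift, lift_snd, Category.id_comp]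
  · rw [atOne, Category.assoc, hΨf]
    exact atOne_alpha φ hpos γ
  · let e : AMonS S ↥Q ⊗ T ⟶ AMonS S ↥N ⊗ T := AMonS.faceMap S hQ ▷ T
    have hc : IsScaled (ofAct φ aU) (snd (A S) (AMonS S ↥Q ⊗ T) ≫ u) := fun R x y q hx => by
      rw [← Category.assoc, ← Category.assoc, lift_snd, lift_snd, fixed_face φ hQ hzero hu]
    have hae : (A S ◁ e) ≫ alpha φ hpos T = snd _ _ ≫ e := by
      rw [← lift_comp_fst_snd (A S ◁ e), lift_alpha, ← lift_comp_fst_snd (snd (A S) _ ≫ e)]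
      simp only [e, whiskerLeft_fst, whiskerLeft_snd, Category.assoc, whiskerRight_fst, whiskerRight_snd]
      congr 1
      refine chi_ext fun n => ?_
      rw [chi_mul, chi_psi, ← Category.assoc (snd _ _) (fst _ _), chi_faceMap hQ]
      by_cases h : (n : M) ∈ Q
      · rw [dif_pos h, (hzero _ n.2).mpr h, Int.toNat_zero, pow_zero, _root_.one_mul]
      · rw [dif_neg h, MulZeroClass.mul_zero]
    have key := congrArg atOne (eq_of_comp_eq f (hΨ.restrict e) hc
      (by rw [Category.assoc, hΨf, ← Category.assoc, hae, Category.assoc, Category.assoc, hcomp])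
      (by
        rw [← Category.assoc, zeroSec_whiskerLeft, Category.assoc, hΨ0, ← Category.assoc (zeroSec _), zeroSec,
          lift_snd, Category.id_comp, ← Category.assoc, ← comp_whiskerRight, AMonS.faceMap_comp_map,
          id_whiskerRight, Category.id_comp]))
    rw [atOne, atOne, lift_whiskerLeft_assoc, Category.id_comp, ← Category.assoc, lift_snd, Category.id_comp,
      ← comp_atOne] at key
    exact key

end EqLiftLib
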