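import Mathlib.CategoryTheory.Monoidal.Cartesian.Over
import Mathlib.AlgebraicGeometry.Restrict
import Mathlib.AlgebraicGeometry.Gluing
import Mathlib.AlgebraicGeometry.Limits

/-!
# Gluing morphisms out of products along open covers of the second factor
-/

set_option autoImplicit false
set_option linter.style.haveILetI false
universe u

open CategoryTheory CategoryTheory.Limits MonoidalCategory CartesianMonoidalCategory
  AlgebraicGeometry Opposite

noncomputable section

namespace EqLiftLib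

set_option backward.isDefEq.respectTransparency.types true

variable {S : Scheme.{u}}

/-- Morphisms are determined on a cover of the base of the parameters. -/
theorem hom_ext_cover {P T Z : Over S} (q : P ⟶ T) {K : Type*} (Q : K → T.left.Opens)
    (hQ : TopologicalSpace.IsOpenCover Q) {a b : P ⟶ Z}
    (h : ∀ (i : K) (R : Over S) (z : R ⟶ P) (y : R ⟶ Over.mk ((Q i).ι ≫ T.hom)),
      y ≫ Over.homMk (Q i).ι rfl = z ≫ q → z ≫ a = z ≫ b) : a = b := by
  refine Over.OverMorphism.ext (Scheme.hom_ext_of_forall _ _ fun w => ?_)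
  obtain ⟨i, hi⟩ := hQ.exists_mem (q.left w)
  let O : P.left.Opens := q.left ⁻¹ᵁ Q i
  have hr : Set.range (O.ι ≫ q.left) ⊆ Set.range (Q i).ι := by
    rw [Scheme.Opens.range_ι]
    rintro _ ⟨v, rfl⟩
    exact v.2
  refine ⟨O, hi, congrArg CommaMorphism.left (h i (Over.mk (O.ι ≫ P.hom)) (Over.homMk O.ι rfl)
    (Over.homMk (IsOpenImmersion.lift (Q i).ι _ hr) ?_) (Over.OverMorphism.ext (IsOpenImmersion.lift_fac _ _ hr)))⟩
  change IsOpenImmersion.lift (Q i).ι _ hr ≫ (Q i).ι ≫ T.hom = O.ι ≫ P.hom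
  rw [IsOpenImmersion.lift_fac_assoc, Category.assoc, Over.w]

/-- Gluing morphisms out of a product along an open cover of the second factor. -/
theorem exists_glue {B T Z : Over S} {K : Type u} (Q : K → T.left.Opens) (hQ : TopologicalSpace.IsOpenCover Q)
    (m : ∀ i, B ⊗ Over.mk ((Q i).ι ≫ T.hom) ⟶ Z)
    (h : ∀ (i j : K) (R : Over S) (y : R ⟶ Over.mk ((Q i).ι ≫ T.hom)) (y' : R ⟶ Over.mk ((Q j).ι ≫ T.hom)),
      y ≫ Over.homMk (Q i).ι rfl = y' ≫ Over.homMk (Q j).ι rfl → (B ◁ y) ≫ m i = (B ◁ y') ≫ m j) :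
    ∃ G : B ⊗ T ⟶ Z, ∀ i, (B ◁ (Over.homMk (Q i).ι rfl : Over.mk ((Q i).ι ≫ T.hom) ⟶ T)) ≫ G = m i := by
  let P : Over S := B ⊗ T
  let q : P ⟶ T := snd B T
  let C : K → P.left.Opens := fun i => q.left ⁻¹ᵁ Q i
  have hC : TopologicalSpace.IsOpenCover C := by
    refine eq_top_iff.mpr fun a _ => ?_
    obtain ⟨i, hi⟩ := hQ.exists_mem (q.left a)
    exact TopologicalSpace.Opens.mem_iSup.mpr ⟨i, hi⟩
  let κ : ∀ i, Over.mk ((Q i).ι ≫ T.hom) ⟶ T := fun i => Over.homMk (Q i).ι rfl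
  let Co : K → Over S := fun i => Over.mk ((C i).ι ≫ P.hom)
  let co : ∀ i, Co i ⟶ P := fun i => Over.homMk (C i).ι rfl
  have hr : ∀ i, Set.range ((C i).ι ≫ q.left) ⊆ Set.range (Q i).ι := fun i => by
    rw [Scheme.Opens.range_ι]
    rintro _ ⟨v, rfl⟩
    exact v.2
  let y : ∀ i, Co i ⟶ Over.mk ((Q i).ι ≫ T.hom) := fun i =>
    Over.homMk (IsOpenImmersion.lift (Q i).ι _ (hr i)) (by
      change IsOpenImmersion.lift (Q i).ι _ (hr i) ≫ (Q i).ι ≫ T.hom = (C i).ι ≫ P.hom
      rw [IsOpenImmersion.lift_fac_assoc, Category.assoc, Over.w])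
  have hy : ∀ i, y i ≫ κ i = co i ≫ q := fun i =>
    Over.OverMorphism.ext (IsOpenImmersion.lift_fac _ _ (hr i))
  let loc : ∀ i, Co i ⟶ Z := fun i => lift (co i ≫ fst _ _) (y i) ≫ m i
  have hloc : ∀ {R : Over S} (i j : K) (z : R ⟶ Co i) (z' : R ⟶ Co j), z ≫ co i = z' ≫ co j →
      z ≫ loc i = z' ≫ loc j := fun {R} i j z z' hz => by
    have hm := congrArg (lift (z ≫ co i ≫ fst B T) (𝟙 R) ≫ ·) (h i j R (z ≫ y i) (z' ≫ y j) (by
      rw [Category.assoc, Category.assoc, hy, hy, ← Category.assoc, hz, Category.assoc]))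
    simp only [lift_whiskerLeft_assoc, Category.id_comp] at hm
    simp only [loc, ← Category.assoc, comp_lift] at hm ⊢
    rw [hm, hz]
  let gl' : P.left ⟶ Z.left :=
    (P.left.openCoverOfIsOpenCover C hC).glueMorphisms (fun i => (loc i).left) fun i j => by
      let R : Over S := Over.mk (pullback.fst (C i).ι (C j).ι ≫ (C i).ι ≫ P.hom)
      exact congrArg CommaMorphism.left (hloc i j (Over.homMk (pullback.fst (C i).ι (C j).ι) rfl : R ⟶ Co i)
        (Over.homMk (pullback.snd (C i).ι (C j).ι) (by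
          change pullback.snd _ _ ≫ (C j).ι ≫ P.hom = pullback.fst _ _ ≫ (C i).ι ≫ P.hom
          rw [← pullback.condition_assoc]))
        (Over.OverMorphism.ext pullback.condition))
  have hgl : ∀ i, (C i).ι ≫ gl' = (loc i).left := fun i =>
    (P.left.openCoverOfIsOpenCover C hC).ι_glueMorphisms _ _ i
  let G : P ⟶ Z := Over.homMk gl' (by
    refine (P.left.openCoverOfIsOpenCover C hC).hom_ext _ _ fun i => ?_
    change (C i).ι ≫ gl' ≫ Z.hom = (C i).ι ≫ P.hom
    rw [← Category.assoc]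
    exact (congrArg (· ≫ Z.hom) (hgl i)).trans (Over.w (loc i)))
  refine ⟨G, fun i => ?_⟩
  let e : B ⊗ Over.mk ((Q i).ι ≫ T.hom) ⟶ P := B ◁ κ i
  have hx : Set.range e.left ⊆ Set.range (C i).ι := by
    rw [Scheme.Opens.range_ι]
    rintro _ ⟨v, rfl⟩
    have h2 := congrArg (fun z => z.left v) (show e ≫ q = snd _ _ ≫ κ i from whiskerLeft_snd B (κ i))
    simp only [Over.comp_left, Scheme.Hom.comp_apply] at h2
    change q.left (e.left v) ∈ Q i
    rw [h2]
    exact ((snd B (Over.mk ((Q i).ι ≫ T.hom))).left v).2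
  let z : B ⊗ Over.mk ((Q i).ι ≫ T.hom) ⟶ Co i := Over.homMk (IsOpenImmersion.lift (C i).ι e.left hx) (by
    change IsOpenImmersion.lift (C i).ι e.left hx ≫ (C i).ι ≫ P.hom = _
    rw [IsOpenImmersion.lift_fac_assoc]
    exact Over.w e)
  have hz : z ≫ co i = e := Over.OverMorphism.ext (IsOpenImmersion.lift_fac _ _ hx)
  have hzy : z ≫ y i = snd _ _ := by
    haveI : Mono (κ i) := (Over.forget S).mono_of_mono_map (show Mono (Q i).ι from inferInstance)
    rw [← cancel_mono (κ i), Category.assoc, hy, ← Category.assoc, hz]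
    exact whiskerLeft_snd B (κ i)
  have hG : z ≫ loc i = e ≫ G := by
    refine Over.OverMorphism.ext ?_
    change IsOpenImmersion.lift (C i).ι e.left hx ≫ (loc i).left = e.left ≫ gl'
    rw [← hgl, IsOpenImmersion.lift_fac_assoc]
  refine hG.symm.trans ?_
  simp only [loc, ← Category.assoc, comp_lift]
  rw [hz, hzy]
  simp [e]

end EqLiftLib
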