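import Groth.Agent.EqLiftLib.Points

/-!
# Equivariant lifting over an affine piece
-/

set_option autoImplicit false
set_option linter.style.haveILetI false
universe u

open CategoryTheory CategoryTheory.Limits MonoidalCategory CartesianMonoidalCategory MonObj
  AlgebraicGeometry Opposite
open BBLib (coord zero zeroSec coord_ext coord_comp coord_mul exists_coord)

noncomputable section

namespace EqLiftLib

variable {S : Scheme.{u}} {X U : Over S} {R : Type u} [CommRing R] {r : Spec (CommRingCat.of R) ⟶ S}

/-- Two points over a power series ring which agree at zero and below an unramified morphism agree. -/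
theorem eq_of_series {Y : Scheme.{u}} {Z : Scheme.{u}} (g : Y ⟶ Z) [FormallyUnramified g] [LocallyOfFiniteType g]
    (x y : Spec (CommRingCat.of (PowerSeries R)) ⟶ Y) (hg : x ≫ g = y ≫ g)
    (h0 : Spec.map (CommRingCat.ofHom (PowerSeries.constantCoeff (R := R))) ≫ x =
      Spec.map (CommRingCat.ofHom (PowerSeries.constantCoeff (R := R))) ≫ y) : x = y := by
  haveI : IsOpenImmersion (pullback.diagonal g) := inferInstance
  let e : Spec (CommRingCat.of (PowerSeries R)) ⟶ pullback g g := pullback.lift x y hg
  let z := Spec.map (CommRingCat.ofHom (PowerSeries.constantCoeff (R := R)))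
  have hz : z ≫ e = (z ≫ x) ≫ pullback.diagonal g := by
    apply pullback.hom_ext
    · rw [Category.assoc, pullback.lift_fst, Category.assoc, pullback.diagonal_fst, Category.comp_id]
    · rw [Category.assoc, pullback.lift_snd, Category.assoc, pullback.diagonal_snd, Category.comp_id]
      exact h0.symm
  have hr : Set.range e ⊆ Set.range (pullback.diagonal g) := by
    rintro _ ⟨q, rfl⟩
    refine range_powerSeries_subset e (pullback.diagonal g).opensRange (fun p => ?_) q
    rw [hz, Scheme.Hom.comp_apply]
    exact ⟨_, rfl⟩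
  have hd := IsOpenImmersion.lift_fac (pullback.diagonal g) e hr
  have e1 := hd =≫ pullback.fst g g
  have e2 := hd =≫ pullback.snd g g
  simp only [Category.assoc, pullback.diagonal_fst, pullback.diagonal_snd, Category.comp_id, e,
    pullback.lift_fst, pullback.lift_snd] at e1 e2
  exact e1.symm.trans e2

variable {σU : Scaling U} {σX : Scaling X} {f : U ⟶ X}

/-- The formal lift. -/
theorem exists_formal [Etale f.left] (Φ : A S ⊗ sp r ⟶ X) (s : sp r ⟶ U)
    (hs : s ≫ f = zeroSec (sp r) ≫ Φ) {V : X.left.Opens} (hV : IsAffineOpen V) {W : U.left.Opens}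
    (hW : IsAffineOpen W) (e : W ≤ f.left ⁻¹ᵁ V) (hsW : ∀ p, s.left p ∈ W) :
    ∃ d : serObj r ⟶ U, d ≫ f = (serToLine r ≫ chart r) ≫ Φ ∧ serZero r ≫ d = s := by
  let x : Spec (CommRingCat.of (PowerSeries R)) ⟶ X.left := ((serToLine r ≫ chart r) ≫ Φ).left
  let z := Spec.map (CommRingCat.ofHom (PowerSeries.constantCoeff (R := R)))
  have hzx : z ≫ x = s.left ≫ f.left := by
    have h := congrArg (fun m => (m ≫ Φ).left) (serZero_chart r)
    simp only [← hs, Category.assoc, Over.comp_left] at h
    exact h
  have hx : ∀ q, x q ∈ V := fun q => range_powerSeries_subset x V (fun p => by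
    rw [hzx]
    exact e (hsW p)) q
  let a := pre hV x hx
  let b := pre hW s.left hsW
  let φ := f.left.appLE V W e
  letI : Algebra Γ(X.left, V) Γ(U.left, W) := φ.hom.toAlgebra
  haveI : Algebra.Etale Γ(X.left, V) Γ(U.left, W) :=
    (RingHom.etale_algebraMap.mp (HasRingHomProperty.appLE (P := @Etale) f.left inferInstance ⟨V, hV⟩ ⟨W, hW⟩ e))
  have hab : a ≫ CommRingCat.ofHom (PowerSeries.constantCoeff (R := R)) = φ ≫ b := by
    rw [pre_comp]
    refine (pre_unique hV _ _ _ ?_).symm
    rw [Spec.map_comp, Category.assoc, IsAffineOpen.SpecMap_appLE_fromSpec f.left hV hW e, ← Category.assoc,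
      pre_spec]
    exact hzx.symm
  obtain ⟨g, hga, hgb⟩ := exists_series_lift a.hom b.hom fun c =>
    DFunLike.congr_fun (congrArg CommRingCat.Hom.hom hab) c
  let dl : Spec (CommRingCat.of (PowerSeries R)) ⟶ U.left := Spec.map (CommRingCat.ofHom g) ≫ hW.fromSpec
  have hdl : dl ≫ f.left = x := by
    rw [Category.assoc, ← IsAffineOpen.SpecMap_appLE_fromSpec f.left hV hW e, ← Category.assoc, ← Spec.map_comp,
      ← pre_spec hV x hx]
    congr 2
    exact CommRingCat.hom_ext hga
  let d : serObj r ⟶ U := Over.homMk dl (by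
    rw [← Over.w f, ← Category.assoc, hdl]
    exact Over.w ((serToLine r ≫ chart r) ≫ Φ))
  refine ⟨d, Over.OverMorphism.ext hdl, Over.OverMorphism.ext ?_⟩
  change z ≫ Spec.map (CommRingCat.ofHom g) ≫ hW.fromSpec = s.left
  rw [← Category.assoc, spec_comp, ← pre_spec hW s.left hsW, hgb]
  rfl

variable (r) in
/-- Power series over Laurent polynomials, over the base. -/
abbrev serLObj : Over S :=
  sp (Spec.map (CommRingCat.ofHom ((PowerSeries.C (R := LaurentPolynomial R)).comp LaurentPolynomial.C)) ≫ r)

variable (r) in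
/-- Twisting. -/
def twistHom : serLObj r ⟶ serObj r :=
  spHom (twist R) (by
    rw [← Category.assoc, spec_comp]
    congr 3
    refine RingHom.ext fun a => PowerSeries.ext fun n => ?_
    rw [RingHom.comp_apply, RingHom.comp_apply, twist_coeff]
    cases n <;> simp [PowerSeries.coeff_C])

variable (r) in
/-- Inclusion of coefficients. -/
def inclHom : serLObj r ⟶ serObj r :=
  spHom (PowerSeries.map LaurentPolynomial.C) (by
    rw [← Category.assoc, spec_comp]
    congr 3
    exact RingHom.ext fun a => by simp)

/-- The unit `λ`. -/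
def lamSer (R : Type u) [CommRing R] : (PowerSeries (LaurentPolynomial R))ˣ :=
  Units.map (PowerSeries.C (R := LaurentPolynomial R)).toMonoidHom (LaurentPolynomial.isUnit_T (R := R) 1).unit

variable (r) in
/-- The scalar as a global unit. -/
def lamPt : Γ((serLObj r).left, ⊤)ˣ := glU (lamSer R)

theorem twist_X : twist R PowerSeries.X =
    PowerSeries.C (LaurentPolynomial.T 1) * PowerSeries.X := by
  rw [twist, RingHom.comp_apply, PowerSeries.map_X, PowerSeries.rescale_X]

/-- The twisting identity. -/
theorem twist_identity (hf : IsScaledMap σU σX f) [FormallyUnramified f.left] [LocallyOfFiniteType f.left]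
    (Φ : A S ⊗ sp r ⟶ X) (hΦ : IsScaled σX Φ) (s : sp r ⟶ U)
    (hfix : ∀ (T : Over S) (t : T ⟶ sp r) (c : Γ(T.left, ⊤)ˣ), σU.op c (t ≫ s) = t ≫ s)
    (d : serObj r ⟶ U) (hd : d ≫ f = (serToLine r ≫ chart r) ≫ Φ) (hd0 : serZero r ≫ d = s) :
    twistHom r ≫ d = σU.op (lamPt r) (inclHom r ≫ d) := by
  refine Over.OverMorphism.ext (eq_of_series f.left _ _ ?_ ?_)
  · rw [← Over.comp_left, ← Over.comp_left, hf, Category.assoc, Category.assoc, hd]
    congr 1
    obtain ⟨g, hg⟩ := exists_coord (serLObj r) (lamPt r : Γ((serLObj r).left, ⊤))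
    have hgu : IsUnit (coord g) := hg ▸ (lamPt r).isUnit
    have hunit : hgu.unit = lamPt r := Units.ext hg
    have hp : (twistHom r ≫ serToLine r) ≫ linePr r = (inclHom r ≫ serToLine r) ≫ linePr r := by
      refine Over.OverMorphism.ext ?_
      simp only [twistHom, inclHom, serToLine, linePr, spHom_comp]
      change Spec.map _ = Spec.map _
      congr 2
      refine RingHom.ext fun a => PowerSeries.ext fun n => ?_
      cases n <;> simp [twist, PowerSeries.coeff_C]
    have hv : (twistHom r ≫ serToLine r) ≫ lineVar r = g * ((inclHom r ≫ serToLine r) ≫ lineVar r) := by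
      refine coord_ext ?_
      simp only [twistHom, inclHom, serToLine, spHom_comp]
      rw [coord_mul, coord_spHom _ _ _ _ coord_lineVar, coord_spHom _ _ _ _ coord_lineVar, hg]
      rw [lamPt, glU_val, gl, gl, gl, ← map_mul]
      congr 1
      simp only [RingHom.comp_apply, Polynomial.coeToPowerSeries.ringHom_apply, Polynomial.coe_X,
        twist_X, PowerSeries.map_X]
      rfl
    have h := hΦ (serLObj r) g ((inclHom r ≫ serToLine r) ≫ lineVar r) ((inclHom r ≫ serToLine r) ≫ linePr r) hgu
    rw [hunit, ← hv, ← hp, ← comp_lift] at h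
    rw [hp, ← comp_lift] at h
    simpa only [chart, Category.assoc] using h
  · let r₁ := Spec.map (CommRingCat.ofHom (LaurentPolynomial.C (R := R))) ≫ r
    let z₁ : sp r₁ ⟶ serLObj r := spHom (PowerSeries.constantCoeff (R := LaurentPolynomial R)) (by
      rw [← Category.assoc, spec_comp]
      congr 3)
    let p₁ : sp r₁ ⟶ sp r := spHom LaurentPolynomial.C rfl
    have h1 : z₁ ≫ twistHom r = p₁ ≫ serZero r := by
      refine Over.OverMorphism.ext ?_
      simp only [z₁, p₁, twistHom, serZero, spHom_comp]
      change Spec.map _ = Spec.map _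
      congr 2
      refine RingHom.ext fun a => ?_
      rw [RingHom.comp_apply, RingHom.comp_apply, ← PowerSeries.coeff_zero_eq_constantCoeff_apply, twist_coeff,
        ← PowerSeries.coeff_zero_eq_constantCoeff_apply]
      simp
    have h2 : z₁ ≫ inclHom r = p₁ ≫ serZero r := by
      refine Over.OverMorphism.ext ?_
      simp only [z₁, p₁, inclHom, serZero, spHom_comp]
      change Spec.map _ = Spec.map _
      congr 2
    have h3 : z₁ ≫ twistHom r ≫ d = z₁ ≫ σU.op (lamPt r) (inclHom r ≫ d) := by
      rw [σU.natural, ← Category.assoc, ← Category.assoc, h1, h2, Category.assoc, hd0, hfix]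
    exact congrArg CommaMorphism.left h3

end EqLiftLib
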