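import Groth.Agent.EqLiftLib.Algebraize

/-!
# Equivariant lifting along étale morphisms
-/

set_option autoImplicit false
set_option linter.style.haveILetI false
universe u

open CategoryTheory CategoryTheory.Limits MonoidalCategory CartesianMonoidalCategory MonObj
  AlgebraicGeometry Opposite
open BBLib (coord zero zeroSec coord_ext coord_comp coord_mul exists_coord)

noncomputable section

namespace EqLiftLib

variable {S : Scheme.{u}} {X U : Over S} {σU : Scaling U} {σX : Scaling X} {f : U ⟶ X}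

theorem zeroSec_whiskerLeft {P Q : Over S} (e : Q ⟶ P) : zeroSec Q ≫ (A S ◁ e) = e ≫ zeroSec P := by
  rw [comp_zeroSec, zeroSec, lift_whiskerLeft, Category.id_comp]

/-- Equivariant lifting: a family over the line compatible with the scaling lifts uniquely through an étale
equivariant morphism with affine source over the base once its value at zero is lifted by a fixed point. -/
theorem existsUnique_lift [Etale f.left] [IsAffineHom U.hom] (hf : IsScaledMap σU σX f) {P : Over S}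
    (Φ : A S ⊗ P ⟶ X) (hΦ : IsScaled σX Φ) (s : P ⟶ U) (hs : s ≫ f = zeroSec P ≫ Φ)
    (hfix : ∀ (T : Over S) (t : T ⟶ P) (c : Γ(T.left, ⊤)ˣ), σU.op c (t ≫ s) = t ≫ s) :
    ∃! Ψ : A S ⊗ P ⟶ U, IsScaled σU Ψ ∧ Ψ ≫ f = Φ ∧ zeroSec P ≫ Ψ = s := by
  refine existsUnique_of_exists_of_unique ?_ fun Ψ₁ Ψ₂ h₁ h₂ =>
    eq_of_comp_eq f h₁.1 h₂.1 (h₁.2.1.trans h₂.2.1.symm) (h₁.2.2.trans h₂.2.2.symm)
  have hpiece : ∀ p : P.left, ∃ Q : P.left.Opens, p ∈ Q ∧
      ∃ Ψ : A S ⊗ Over.mk (Q.ι ≫ P.hom) ⟶ U, IsScaled σU Ψ ∧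
        Ψ ≫ f = (A S ◁ (Over.homMk Q.ι rfl : Over.mk (Q.ι ≫ P.hom) ⟶ P)) ≫ Φ ∧
        zeroSec _ ≫ Ψ = (Over.homMk Q.ι rfl : Over.mk (Q.ι ≫ P.hom) ⟶ P) ≫ s := by
    intro p
    obtain ⟨S₀, hS₀, hx, -⟩ := exists_isAffineOpen_mem_and_subset (x := P.hom p) (U := ⊤) trivial
    obtain ⟨V, hV, hxV, -⟩ := exists_isAffineOpen_mem_and_subset (x := f.left (s.left p)) (U := ⊤) trivial
    obtain ⟨W, hW, hxW, hWle⟩ := exists_isAffineOpen_mem_and_subset (x := s.left p)
      (U := f.left ⁻¹ᵁ V) hxV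
    obtain ⟨Q, hQ, hpQ, hQle⟩ := exists_isAffineOpen_mem_and_subset (x := p)
      (U := s.left ⁻¹ᵁ W ⊓ P.hom ⁻¹ᵁ S₀) ⟨hxW, hx⟩
    refine ⟨Q, hpQ, ?_⟩
    let r : Spec Γ(P.left, Q) ⟶ S := hQ.fromSpec ≫ P.hom
    let e : sp r ⟶ P := Over.homMk hQ.fromSpec rfl
    have hmem : ∀ q, hQ.fromSpec q ∈ s.left ⁻¹ᵁ W ⊓ P.hom ⁻¹ᵁ S₀ := fun q => hQle (by
      have hq : hQ.fromSpec q ∈ Set.range hQ.fromSpec := ⟨q, rfl⟩
      rw [hQ.range_fromSpec] at hq
      exact hq)
    obtain ⟨Ψ₀, hΨ₀, hΨf, hΨ0⟩ := exists_local hf ((A S ◁ e) ≫ Φ) (hΦ.restrict e) (e ≫ s)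
      (by rw [Category.assoc, hs, ← Category.assoc, ← Category.assoc, zeroSec_whiskerLeft])
      (fun T t c => by rw [← Category.assoc]; exact hfix T (t ≫ e) c) hS₀
      (fun q => by change (hQ.fromSpec ≫ P.hom) q ∈ S₀; rw [Scheme.Hom.comp_apply]; exact (hmem q).2)
      (hS₀.preimage U.hom) hV hW hWle
      (fun q => by change (hQ.fromSpec ≫ s.left) q ∈ W; rw [Scheme.Hom.comp_apply]; exact (hmem q).1)
    let i : Over.mk (Q.ι ≫ P.hom) ⟶ sp r := Over.homMk hQ.isoSpec.hom (by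
      change hQ.isoSpec.hom ≫ hQ.fromSpec ≫ P.hom = Q.ι ≫ P.hom
      rw [hQ.isoSpec_hom_fromSpec_assoc])
    have hie : i ≫ e = Over.homMk Q.ι rfl := Over.OverMorphism.ext hQ.isoSpec_hom_fromSpec
    refine ⟨(A S ◁ i) ≫ Ψ₀, hΨ₀.restrict i, ?_, ?_⟩
    · rw [Category.assoc, hΨf, ← MonoidalCategory.whiskerLeft_comp_assoc, hie]
    · rw [← Category.assoc, zeroSec_whiskerLeft, Category.assoc, hΨ0, ← Category.assoc, hie]
  choose Q hpQ Ψ hΨ hΨf hΨ0 using hpiece
  let ι' : ∀ p : P.left, Over.mk ((Q p).ι ≫ P.hom) ⟶ P := fun p => Over.homMk (Q p).ι rfl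
  let AP := A S ⊗ P
  let C : ∀ p : P.left, AP.left.Opens := fun p => (snd (A S) P).left ⁻¹ᵁ Q p
  have hC : TopologicalSpace.IsOpenCover C := by
    refine eq_top_iff.mpr fun a _ => ?_
    exact TopologicalSpace.Opens.mem_iSup.mpr ⟨(snd (A S) P).left a, hpQ _⟩
  have hlift : ∀ {T : Over S} (x : T ⟶ AP) (p : P.left), (∀ t, x.left t ∈ C p) →
      ∃ y : T ⟶ Over.mk ((Q p).ι ≫ P.hom), y ≫ ι' p = x ≫ snd _ _ := fun {T} x p hx => by
    have hr : Set.range (x ≫ snd (A S) P).left ⊆ Set.range (Q p).ι := by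
      rw [Scheme.Opens.range_ι]
      rintro _ ⟨t, rfl⟩
      exact hx t
    refine ⟨Over.homMk (IsOpenImmersion.lift (Q p).ι _ hr) ?_, Over.OverMorphism.ext (IsOpenImmersion.lift_fac _ _ hr)⟩
    change IsOpenImmersion.lift (Q p).ι _ hr ≫ (Q p).ι ≫ P.hom = T.hom
    rw [IsOpenImmersion.lift_fac_assoc]
    exact Over.w (x ≫ snd (A S) P)
  have hval : ∀ {T : Over S} (x : T ⟶ AP) (p p' : P.left) (y : T ⟶ Over.mk ((Q p).ι ≫ P.hom))
      (y' : T ⟶ Over.mk ((Q p').ι ≫ P.hom)), y ≫ ι' p = x ≫ snd _ _ → y' ≫ ι' p' = x ≫ snd _ _ →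
      lift (x ≫ fst _ _) y ≫ Ψ p = lift (x ≫ fst _ _) y' ≫ Ψ p' := fun {T} x p p' y y' hy hy' => by
    have h := eq_of_comp_eq (σU := σU) f ((hΨ p).restrict y) ((hΨ p').restrict y')
      (by rw [Category.assoc, Category.assoc, hΨf, hΨf, ← MonoidalCategory.whiskerLeft_comp_assoc,
        ← MonoidalCategory.whiskerLeft_comp_assoc, hy, hy'])
      (by rw [← Category.assoc, ← Category.assoc, zeroSec_whiskerLeft, zeroSec_whiskerLeft, Category.assoc,
        Category.assoc, hΨ0, hΨ0, ← Category.assoc, ← Category.assoc, hy, hy'])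
    have h' := congrArg (lift (x ≫ fst _ _) (𝟙 T) ≫ ·) h
    simpa only [lift_whiskerLeft_assoc, Category.id_comp] using h'
  let Co : ∀ p : P.left, Over S := fun p => Over.mk ((C p).ι ≫ AP.hom)
  let co : ∀ p : P.left, Co p ⟶ AP := fun p => Over.homMk (C p).ι rfl
  have hy : ∀ p, ∃ y : Co p ⟶ Over.mk ((Q p).ι ≫ P.hom), y ≫ ι' p = co p ≫ snd _ _ := fun p =>
    hlift (co p) p fun t => t.2
  choose y hy using hy
  let loc : ∀ p, Co p ⟶ U := fun p => lift (co p ≫ fst _ _) (y p) ≫ Ψ p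
  have hloc : ∀ {T : Over S} (x : T ⟶ AP) (p : P.left) (z : T ⟶ Co p), z ≫ co p = x →
      ∀ (p' : P.left) (y' : T ⟶ Over.mk ((Q p').ι ≫ P.hom)), y' ≫ ι' p' = x ≫ snd _ _ →
      z ≫ loc p = lift (x ≫ fst _ _) y' ≫ Ψ p' := fun {T} x p z hz p' y' hy' => by
    rw [← hval x p p' (z ≫ y p) y' (by rw [Category.assoc, hy, ← Category.assoc, hz]) hy', ← Category.assoc,
      comp_lift, ← Category.assoc, hz]
  let gl' : AP.left ⟶ U.left :=
    (AP.left.openCoverOfIsOpenCover C hC).glueMorphisms (fun p => (loc p).left) fun p p' => by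
      let T : Over S := Over.mk (pullback.fst (C p).ι (C p').ι ≫ (C p).ι ≫ AP.hom)
      let a : T ⟶ Co p := Over.homMk (pullback.fst (C p).ι (C p').ι) rfl
      let b : T ⟶ Co p' := Over.homMk (pullback.snd (C p).ι (C p').ι) (by
        change pullback.snd _ _ ≫ (C p').ι ≫ AP.hom = pullback.fst _ _ ≫ (C p).ι ≫ AP.hom
        rw [← pullback.condition_assoc])
      have hab : a ≫ co p = b ≫ co p' := Over.OverMorphism.ext pullback.condition
      have h := (hloc (a ≫ co p) p a rfl p' (b ≫ y p') (by rw [Category.assoc, hy, ← Category.assoc, hab])).trans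
        (hloc (a ≫ co p) p' b hab.symm p' (b ≫ y p') (by rw [Category.assoc, hy, ← Category.assoc, hab])).symm
      exact congrArg CommaMorphism.left h
  have hgl : ∀ p, (C p).ι ≫ gl' = (loc p).left := fun p =>
    (AP.left.openCoverOfIsOpenCover C hC).ι_glueMorphisms _ _ p
  let G : AP ⟶ U := Over.homMk gl' (by
    refine (AP.left.openCoverOfIsOpenCover C hC).hom_ext _ _ fun p => ?_
    change (C p).ι ≫ gl' ≫ U.hom = (C p).ι ≫ AP.hom
    rw [← Category.assoc, hgl]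
    exact Over.w (loc p))
  have hG : ∀ {T : Over S} (x : T ⟶ AP) (p : P.left) (y' : T ⟶ Over.mk ((Q p).ι ≫ P.hom)),
      y' ≫ ι' p = x ≫ snd _ _ → x ≫ G = lift (x ≫ fst _ _) y' ≫ Ψ p := fun {T} x p y' hy' => by
    have hx : Set.range x.left ⊆ Set.range (C p).ι := by
      rw [Scheme.Opens.range_ι]
      rintro _ ⟨t, rfl⟩
      have h := congrArg (fun m => m.left t) hy'
      simp only [Over.comp_left, Scheme.Hom.comp_apply] at h
      change (snd (A S) P).left (x.left t) ∈ Q p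
      rw [← h]
      exact (y'.left t).2
    let z : T ⟶ Co p := Over.homMk (IsOpenImmersion.lift (C p).ι x.left hx) (by
      change IsOpenImmersion.lift (C p).ι x.left hx ≫ (C p).ι ≫ AP.hom = T.hom
      rw [IsOpenImmersion.lift_fac_assoc]
      exact Over.w x)
    have hz : z ≫ co p = x := Over.OverMorphism.ext (IsOpenImmersion.lift_fac _ _ hx)
    rw [← hloc x p z hz p y' hy']
    refine Over.OverMorphism.ext ?_
    change x.left ≫ gl' = IsOpenImmersion.lift (C p).ι x.left hx ≫ (loc p).left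
    rw [← hgl, IsOpenImmersion.lift_fac_assoc]
  refine ⟨G, ?_, ?_, ?_⟩
  · intro T g h t hg
    refine Over.OverMorphism.ext (Scheme.hom_ext_of_forall _ _ fun w => ?_)
    let O : T.left.Opens := t.left ⁻¹ᵁ Q (t.left w)
    let T' : Over S := Over.mk (O.ι ≫ T.hom)
    let o : T' ⟶ T := Over.homMk O.ι rfl
    refine ⟨O, hpQ _, congrArg CommaMorphism.left (show o ≫ lift (g * h) t ≫ G = o ≫ σU.op hg.unit (lift h t ≫ G) from ?_)⟩
    obtain ⟨y', hy'⟩ := hlift (o ≫ lift h t) (t.left w) (fun v => by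
      change (o ≫ lift h t ≫ snd (A S) P).left v ∈ Q (t.left w)
      rw [lift_snd]
      exact v.2)
    have hy2 : y' ≫ ι' (t.left w) = o ≫ t := by rw [hy', Category.assoc, lift_snd]
    rw [σU.natural, ← Category.assoc o (lift h t) G, hG (o ≫ lift h t) _ y' hy', Category.assoc, lift_fst,
      ← Category.assoc o (lift (g * h) t) G, hG (o ≫ lift (g * h) t) _ y' (by rw [hy2, Category.assoc, lift_snd]),
      Category.assoc, lift_fst, MonObj.comp_mul]
    have hgu : IsUnit (coord (o ≫ g)) := by rw [coord_comp]; exact hg.map o.left.appTop.hom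
    have hunit : hgu.unit = res o hg.unit := Units.ext (coord_comp o g)
    rw [hΨ _ T' (o ≫ g) (o ≫ h) y' hgu, hunit]
  · refine Over.OverMorphism.ext ((AP.left.openCoverOfIsOpenCover C hC).hom_ext _ _ fun p => ?_)
    refine congrArg CommaMorphism.left (show co p ≫ G ≫ f = co p ≫ Φ from ?_)
    rw [← Category.assoc, hG (co p) p (y p) (hy p), Category.assoc, hΨf, lift_whiskerLeft_assoc]
    change lift _ (y p ≫ ι' p) ≫ Φ = _
    rw [hy p, lift_comp_fst_snd]
  · refine Over.OverMorphism.ext (Scheme.hom_ext_of_forall _ _ fun p => ?_)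
    let T : Over S := Over.mk ((Q p).ι ≫ P.hom)
    refine ⟨Q p, hpQ p, congrArg CommaMorphism.left (show ι' p ≫ zeroSec P ≫ G = ι' p ≫ s from ?_)⟩
    rw [← Category.assoc, hG (ι' p ≫ zeroSec P) p (𝟙 T) (by
      rw [Category.id_comp, Category.assoc, zeroSec, lift_snd, Category.comp_id]),
      comp_zeroSec, lift_fst, ← hΨ0 p, zeroSec]

end EqLiftLib
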