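import Mathlib.Algebra.Polynomial.Laurent
import Mathlib.AlgebraicGeometry.Scheme
import Mathlib.RingTheory.Spectrum.Prime.Topology
import Mathlib.RingTheory.PowerSeries.Basic
import Mathlib.RingTheory.PowerSeries.Inverse
import Mathlib.RingTheory.Localization.Away.Basic
import Mathlib.RingTheory.Smooth.AdicCompletion
import Mathlib.RingTheory.AdicCompletion.Completeness

/-!
# Ring lemmas for equivariant lifting: power series and Laurent polynomials
-/

set_option autoImplicit false
set_option linter.style.haveILetI false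
universe u

open CategoryTheory AlgebraicGeometry

noncomputable section

namespace EqLiftLib

variable {R : Type u} [CommRing R]

/-- Polynomials as power series. -/
abbrev toSeries (R : Type u) [CommRing R] : Polynomial R →+* PowerSeries R :=
  Polynomial.coeToPowerSeries.ringHom

theorem toSeries_injective : Function.Injective (toSeries R) := fun _ _ h => Polynomial.coe_injective R h

/-- `R[[t]][λ±] ⟶ R[λ±][[t]]`. -/
def swap (R : Type u) [CommRing R] : LaurentPolynomial (PowerSeries R) →+* PowerSeries (LaurentPolynomial R) :=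
  LaurentPolynomial.eval₂ (PowerSeries.map LaurentPolynomial.C)
    (Units.map (PowerSeries.C : LaurentPolynomial R →+* PowerSeries (LaurentPolynomial R)).toMonoidHom
      (IsUnit.unit (LaurentPolynomial.isUnit_T 1)))

theorem unit_T_zpow (n : ℤ) :
    (((LaurentPolynomial.isUnit_T (R := R) 1).unit ^ n : (LaurentPolynomial R)ˣ) : LaurentPolynomial R) =
      LaurentPolynomial.T n := by
  induction n using Int.induction_on with
  | zero => simp
  | succ m ih => rw [zpow_add_one, Units.val_mul, ih, IsUnit.unit_spec, ← LaurentPolynomial.T_add]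
  | pred m ih =>
    rw [zpow_sub_one, Units.val_mul, ih]
    refine (Units.mul_inv_eq_iff_eq_mul _).mpr ?_
    rw [IsUnit.unit_spec, ← LaurentPolynomial.T_add, sub_add_cancel]

theorem swap_C_mul_T (a : PowerSeries R) (n : ℤ) (j : ℕ) :
    PowerSeries.coeff j (swap R (LaurentPolynomial.C a * LaurentPolynomial.T n)) =
      LaurentPolynomial.C (PowerSeries.coeff j a) * LaurentPolynomial.T n := by
  have hT : swap R (LaurentPolynomial.T n) = PowerSeries.C (LaurentPolynomial.T n) := by
    rw [swap, LaurentPolynomial.eval₂_T, ← map_zpow, Units.coe_map, unit_T_zpow]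
    rfl
  rw [map_mul, hT, swap, LaurentPolynomial.eval₂_C, PowerSeries.coeff_mul_C, PowerSeries.coeff_map]

theorem coeff_C_mul_T' {A : Type*} [CommRing A] (r : A) (n i : ℤ) :
    (LaurentPolynomial.C r * LaurentPolynomial.T n).coeff i = if n = i then r else 0 := by
  rw [← LaurentPolynomial.single_eq_C_mul_T]
  change (Finsupp.single n r) i = _
  rw [Finsupp.single_apply]

theorem swap_coeff (z : LaurentPolynomial (PowerSeries R)) (j : ℕ) (i : ℤ) :
    (PowerSeries.coeff j (swap R z)).coeff i = PowerSeries.coeff j (z.coeff i) := by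
  induction z using LaurentPolynomial.induction_on' with
  | add p q hp hq => simp [hp, hq]
  | C_mul_T n a =>
    rw [swap_C_mul_T, coeff_C_mul_T', coeff_C_mul_T']
    split_ifs <;> simp

/-- Substitution `t ↦ λ t`. -/
def twist (R : Type u) [CommRing R] : PowerSeries R →+* PowerSeries (LaurentPolynomial R) :=
  (PowerSeries.rescale (LaurentPolynomial.T (1 : ℤ))).comp (PowerSeries.map LaurentPolynomial.C)

theorem twist_coeff (a : PowerSeries R) (j : ℕ) :
    PowerSeries.coeff j (twist R a) =
      LaurentPolynomial.C (PowerSeries.coeff j a) * LaurentPolynomial.T (j : ℤ) := by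
  rw [twist, RingHom.comp_apply, PowerSeries.coeff_rescale, PowerSeries.coeff_map, LaurentPolynomial.T_pow,
    mul_comm, mul_one]

/-- A series whose twist comes from `R[[t]][λ±]` is a polynomial. -/
theorem exists_polynomial (c : PowerSeries R) (z : LaurentPolynomial (PowerSeries R))
    (h : swap R z = twist R c) : ∃ p : Polynomial R, toSeries R p = c := by
  classical
  let N := (z.coeff.support.sup fun i => i.toNat) + 1
  have hz : ∀ j, N ≤ j → PowerSeries.coeff j c = 0 := fun j hj => by
    have h1 := congrArg (fun w => (PowerSeries.coeff j w).coeff (j : ℤ)) h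
    simp only [swap_coeff, twist_coeff, coeff_C_mul_T', if_true] at h1
    have h2 : z.coeff (j : ℤ) = 0 := by
      by_contra h3
      have h4 : ((j : ℤ)).toNat ≤ N - 1 := by
        simpa [N] using Finset.le_sup (f := fun i : ℤ => i.toNat) (Finsupp.mem_support_iff.mpr h3)
      omega
    rw [h2, map_zero] at h1
    exact h1.symm
  refine ⟨PowerSeries.trunc N c, PowerSeries.ext fun j => ?_⟩
  rw [Polynomial.coeToPowerSeries.ringHom_apply, Polynomial.coeff_coe, PowerSeries.coeff_trunc]
  split_ifs with hj
  · rfl
  · exact (hz j (not_lt.mp hj)).symm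

/-- Points of a power series scheme lie in an open subset once those at `t = 0` do. -/
theorem range_powerSeries_subset {Y : Scheme.{u}} (x : Spec (CommRingCat.of (PowerSeries R)) ⟶ Y)
    (V : Y.Opens)
    (h : ∀ p, (Spec.map (CommRingCat.ofHom (PowerSeries.constantCoeff (R := R))) ≫ x) p ∈ V) :
    ∀ q, x q ∈ V := by
  intro q
  obtain ⟨m, hm, hqm⟩ := q.asIdeal.exists_le_maximal q.isPrime.ne_top
  let pm : PrimeSpectrum (PowerSeries R) := ⟨m, hm.isPrime⟩
  have hmem : pm ∈ Set.range (PrimeSpectrum.comap (PowerSeries.constantCoeff (R := R))) := by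
    rw [range_comap_of_surjective _ _ PowerSeries.constantCoeff_surj]
    intro a ha
    have hX : (PowerSeries.X : PowerSeries R) ∈ m := by
      by_contra hX
      obtain ⟨b, c, hc, e⟩ := hm.exists_inv hX
      have h1 := congrArg PowerSeries.constantCoeff e
      rw [map_add, map_mul, PowerSeries.constantCoeff_X, mul_zero, zero_add, map_one] at h1
      exact hm.ne_top (m.eq_top_of_isUnit_mem hc (PowerSeries.isUnit_iff_constantCoeff.mpr (h1 ▸ isUnit_one)))
    obtain ⟨b, rfl⟩ := PowerSeries.X_dvd_iff.mpr ha
    exact m.mul_mem_right b hX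
  obtain ⟨p, hp⟩ := hmem
  have hsp : q ⤳ pm := (PrimeSpectrum.le_iff_specializes _ _).mp hqm
  have hpm : pm ∈ x ⁻¹ᵁ V := by
    have := h p
    rw [Scheme.Hom.comp_apply] at this
    change x pm ∈ V
    rw [← hp]
    exact this
  exact hsp.mem_open (x ⁻¹ᵁ V).2 hpm

/-- The ring of functions near `t = 0` embeds into power series. -/
theorem exists_embedding (g : Polynomial R) :
    ∃ (L : Type u) (_ : CommRing L) (l : R →+* L)
      (π : Localization.Away (g * Polynomial.C (g.coeff 0)) →+* PowerSeries L),
      (∀ p, π (algebraMap (Polynomial R) _ p) = PowerSeries.map l (toSeries R p)) ∧ Function.Injective π := by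
  let g₀ := g.coeff 0
  let L := Localization.Away g₀
  let J : Polynomial R →+* PowerSeries L := (PowerSeries.map (algebraMap R L)).comp (toSeries R)
  have hJ : ∀ p : Polynomial R, ∀ i, PowerSeries.coeff i (J p) = algebraMap R L (p.coeff i) := fun p i => by
    simp [J]
  have hu : IsUnit (J (g * Polynomial.C g₀)) := by
    rw [PowerSeries.isUnit_iff_constantCoeff, ← PowerSeries.coeff_zero_eq_constantCoeff_apply, hJ,
      Polynomial.mul_coeff_zero, Polynomial.coeff_C_zero, map_mul]
    exact (IsLocalization.Away.algebraMap_isUnit g₀).mul (IsLocalization.Away.algebraMap_isUnit g₀)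
  let R1 := Localization.Away (g * Polynomial.C g₀)
  let π : R1 →+* PowerSeries L := IsLocalization.Away.lift (g * Polynomial.C g₀) hu
  have hπ : ∀ p, π (algebraMap _ R1 p) = J p := IsLocalization.Away.lift_eq _ hu
  refine ⟨L, inferInstance, algebraMap R L, π, hπ, (injective_iff_map_eq_zero π).mpr fun x hx => ?_⟩
  obtain ⟨m, p, hp⟩ := IsLocalization.Away.surj (g * Polynomial.C g₀) x
  have hp0 : J p = 0 := by rw [← hπ, ← hp, map_mul, hx, zero_mul]
  have hall : ∀ i, ∃ N : ℕ, g₀ ^ N * p.coeff i = 0 := fun i => by
    have h : algebraMap R L (p.coeff i) = 0 := by rw [← hJ, hp0, map_zero]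
    obtain ⟨⟨_, N, rfl⟩, hN⟩ := (IsLocalization.map_eq_zero_iff (Submonoid.powers g₀) L _).mp h
    exact ⟨N, hN⟩
  choose N hN using hall
  let N₀ := p.support.sup N
  have hz : Polynomial.C g₀ ^ N₀ * p = 0 := by
    refine Polynomial.ext fun i => ?_
    rw [← map_pow, Polynomial.coeff_C_mul, Polynomial.coeff_zero]
    by_cases hi : i ∈ p.support
    · obtain ⟨d, hd⟩ := Nat.exists_eq_add_of_le (Finset.le_sup (f := N) hi)
      rw [show N₀ = d + N i by rw [add_comm]; exact hd, pow_add, mul_assoc, hN, mul_zero]
    · rw [Polynomial.notMem_support_iff.mp hi, mul_zero]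
  have hgu : IsUnit (algebraMap (Polynomial R) R1 g * algebraMap _ R1 (Polynomial.C g₀)) := by
    rw [← map_mul]; exact IsLocalization.Away.algebraMap_isUnit _
  have hpz : algebraMap (Polynomial R) R1 p = 0 := by
    have h := congrArg (algebraMap (Polynomial R) R1) hz
    rw [map_mul, map_pow, map_zero] at h
    exact ((isUnit_of_mul_isUnit_right hgu).pow N₀).mul_right_eq_zero.mp h
  rw [hpz] at hp
  exact ((IsLocalization.Away.algebraMap_isUnit (g * Polynomial.C g₀)).pow m).mul_left_eq_zero.mp hp

/-- Smooth algebras lift points to power series. -/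
theorem exists_series_lift {C B : Type u} [CommRing C] [CommRing B] [Algebra C B]
    [Algebra.FormallySmooth C B] (a : C →+* PowerSeries R) (b : B →+* R)
    (h : ∀ c, PowerSeries.constantCoeff (a c) = b (algebraMap C B c)) :
    ∃ g : B →+* PowerSeries R, g.comp (algebraMap C B) = a ∧
      (PowerSeries.constantCoeff (R := R)).comp g = b := by
  letI : Algebra C (PowerSeries R) := a.toAlgebra
  let I : Ideal (PowerSeries R) := Ideal.span {PowerSeries.X}
  have hI : ∀ w v : PowerSeries R, PowerSeries.constantCoeff w = PowerSeries.constantCoeff v →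
      Ideal.Quotient.mk I w = Ideal.Quotient.mk I v := fun w v e => by
    rw [Ideal.Quotient.eq, Ideal.mem_span_singleton, PowerSeries.X_dvd_iff, map_sub, e, sub_self]
  let φ : B →ₐ[C] PowerSeries R ⧸ I :=
    { toRingHom := (Ideal.Quotient.mk I).comp ((PowerSeries.C (R := R)).comp b)
      commutes' := fun c => hI _ _ (by
        change PowerSeries.constantCoeff (PowerSeries.C (b (algebraMap C B c))) = PowerSeries.constantCoeff (a c)
        rw [PowerSeries.constantCoeff_C, h]) }
  obtain ⟨g, hg⟩ := Algebra.FormallySmooth.exists_mkₐ_comp_eq_of_isAdicComplete φ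
  refine ⟨g.toRingHom, RingHom.ext fun c => g.commutes c, RingHom.ext fun x => ?_⟩
  have h1 : Ideal.Quotient.mk I (g x) = Ideal.Quotient.mk I (PowerSeries.C (b x)) :=
    DFunLike.congr_fun hg x
  rw [Ideal.Quotient.eq, Ideal.mem_span_singleton, PowerSeries.X_dvd_iff, map_sub, sub_eq_zero,
    PowerSeries.constantCoeff_C] at h1
  exact h1

end EqLiftLib
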