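import Groth.Agent.EqLiftLib.Scaling
import Groth.Agent.EqLiftLib.Rings

/-!
# Spectra over the base, the coordinate chart of the line over a spectrum
-/

set_option autoImplicit false
set_option linter.style.haveILetI false
universe u

open CategoryTheory CategoryTheory.Limits MonoidalCategory CartesianMonoidalCategory MonObj
  AlgebraicGeometry Opposite
open BBLib (coord zero zeroSec coord_ext coord_comp coord_mul exists_coord)

noncomputable section

namespace EqLiftLib

variable {S : Scheme.{u}}

/-- A spectrum over the base. -/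
abbrev sp {R : Type u} [CommRing R] (r : Spec (CommRingCat.of R) ⟶ S) : Over S := Over.mk r

/-- An element as a global function. -/
def gl {R : Type u} [CommRing R] (a : R) : Γ(Spec (CommRingCat.of R), ⊤) :=
  (Scheme.ΓSpecIso (CommRingCat.of R)).inv a

theorem gl_map {R R' : Type u} [CommRing R] [CommRing R'] (j : R →+* R') (a : R) :
    (Spec.map (CommRingCat.ofHom j)).appTop (gl a) = gl (j a) := by
  rw [gl, ← CommRingCat.comp_apply, ← Scheme.ΓSpecIso_inv_naturality]
  rfl

/-- A unit as a unit of global functions. -/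
def glU {R : Type u} [CommRing R] (a : Rˣ) : Γ(Spec (CommRingCat.of R), ⊤)ˣ :=
  Units.map (Scheme.ΓSpecIso (CommRingCat.of R)).inv.hom.toMonoidHom a

theorem glU_val {R : Type u} [CommRing R] (a : Rˣ) : (glU a : Γ(Spec (CommRingCat.of R), ⊤)) = gl (a : R) :=
  rfl

variable {R : Type u} [CommRing R] {r : Spec (CommRingCat.of R) ⟶ S}

/-- Morphisms of spectra over the base. -/
def spHom {R' : Type u} [CommRing R'] {r' : Spec (CommRingCat.of R') ⟶ S} (j : R →+* R')
    (w : Spec.map (CommRingCat.ofHom j) ≫ r = r') : sp r' ⟶ sp r :=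
  Over.homMk (Spec.map (CommRingCat.ofHom j)) w

theorem coord_spHom {R' : Type u} [CommRing R'] {r' : Spec (CommRingCat.of R') ⟶ S} (j : R →+* R')
    (w : Spec.map (CommRingCat.ofHom j) ≫ r = r') (g : sp r ⟶ A S) (a : R) (hg : coord g = gl a) :
    coord (spHom j w ≫ g) = gl (j a) := by
  rw [coord_comp, hg]
  exact gl_map j a

theorem spec_comp {R₁ R₂ R₃ : Type u} [CommRing R₁] [CommRing R₂] [CommRing R₃] (a : R₁ →+* R₂) (b : R₂ →+* R₃) :
    Spec.map (CommRingCat.ofHom b) ≫ Spec.map (CommRingCat.ofHom a) = Spec.map (CommRingCat.ofHom (b.comp a)) := by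
  rw [← Spec.map_comp, ← CommRingCat.ofHom_comp]

theorem spHom_comp {R₁ R₂ : Type u} [CommRing R₁] [CommRing R₂] {r₁ : Spec (CommRingCat.of R₁) ⟶ S}
    {r₂ : Spec (CommRingCat.of R₂) ⟶ S} (a : R →+* R₁) (b : R₁ →+* R₂)
    (wa : Spec.map (CommRingCat.ofHom a) ≫ r = r₁) (wb : Spec.map (CommRingCat.ofHom b) ≫ r₁ = r₂) :
    spHom b wb ≫ spHom a wa = spHom (b.comp a) (by rw [← spec_comp, Category.assoc, wa, wb]) :=
  Over.OverMorphism.ext (spec_comp a b)

/-- Morphisms to an affine open as ring homomorphisms. -/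
def pre {Y : Scheme.{u}} {V : Y.Opens} (hV : IsAffineOpen V) (x : Spec (CommRingCat.of R) ⟶ Y)
    (hx : ∀ p, x p ∈ V) : Γ(Y, V) ⟶ CommRingCat.of R :=
  Spec.preimage (IsOpenImmersion.lift hV.fromSpec x (by
    rw [hV.range_fromSpec]; rintro _ ⟨p, rfl⟩; exact hx p))

theorem pre_spec {Y : Scheme.{u}} {V : Y.Opens} (hV : IsAffineOpen V) (x : Spec (CommRingCat.of R) ⟶ Y)
    (hx : ∀ p, x p ∈ V) : Spec.map (pre hV x hx) ≫ hV.fromSpec = x := by
  rw [pre, Spec.map_preimage, IsOpenImmersion.lift_fac]

theorem pre_unique {Y : Scheme.{u}} {V : Y.Opens} (hV : IsAffineOpen V) (x : Spec (CommRingCat.of R) ⟶ Y)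
    (hx : ∀ p, x p ∈ V) (φ : Γ(Y, V) ⟶ CommRingCat.of R) (h : Spec.map φ ≫ hV.fromSpec = x) :
    φ = pre hV x hx :=
  Spec.map_injective ((cancel_mono hV.fromSpec).mp (h.trans (pre_spec hV x hx).symm))

theorem pre_comp {R' : Type u} [CommRing R'] {Y : Scheme.{u}} {V : Y.Opens} (hV : IsAffineOpen V)
    (x : Spec (CommRingCat.of R) ⟶ Y) (hx : ∀ p, x p ∈ V) (j : R →+* R') :
    pre hV x hx ≫ CommRingCat.ofHom j =
      pre hV (Spec.map (CommRingCat.ofHom j) ≫ x) (fun p => by rw [Scheme.Hom.comp_apply]; exact hx _) :=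
  pre_unique hV _ _ _ (by rw [Spec.map_comp, Category.assoc, pre_spec])

/-- Morphisms into an affine open agree when they agree on an injective extension. -/
theorem eq_of_injective {R' : Type u} [CommRing R'] {Y : Scheme.{u}} {V : Y.Opens} (hV : IsAffineOpen V)
    (x y : Spec (CommRingCat.of R) ⟶ Y) (hx : ∀ p, x p ∈ V) (hy : ∀ p, y p ∈ V) (j : R →+* R')
    (hj : Function.Injective j) (h : Spec.map (CommRingCat.ofHom j) ≫ x = Spec.map (CommRingCat.ofHom j) ≫ y) :
    x = y := by
  rw [← pre_spec hV x hx, ← pre_spec hV y hy]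
  congr 2
  refine CommRingCat.hom_ext (RingHom.ext fun a => hj ?_)
  have := pre_comp hV x hx j
  simp only [h, ← pre_comp hV y hy j] at this
  exact DFunLike.congr_fun (congrArg CommRingCat.Hom.hom this) a

variable (r) in
/-- The line over a spectrum. -/
abbrev lineObj : Over S := sp (Spec.map (CommRingCat.ofHom (Polynomial.C (R := R))) ≫ r)

variable (r) in
/-- Its projection. -/
def linePr : lineObj r ⟶ sp r := spHom Polynomial.C rfl

variable (r) in
/-- Its coordinate point. -/
def lineVar : lineObj r ⟶ A S := (exists_coord (lineObj r) (gl Polynomial.X)).choose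

theorem coord_lineVar : coord (lineVar r) = gl Polynomial.X :=
  (exists_coord (lineObj r) (gl (Polynomial.X (R := R)))).choose_spec

variable (r) in
/-- The chart. -/
def chart : lineObj r ⟶ A S ⊗ sp r := lift (lineVar r) (linePr r)

variable (r) in
theorem isIso_chart : IsIso (chart r) := by
  let P := A S ⊗ sp r
  let β : R →+* Γ(P.left, ⊤) :=
    ((Scheme.ΓSpecIso (CommRingCat.of R)).inv ≫ (snd (A S) (sp r)).left.appTop).hom
  let ψ : Polynomial R →+* Γ(P.left, ⊤) := Polynomial.eval₂RingHom β (coord (fst (A S) (sp r)))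
  let l : P.left ⟶ Spec (CommRingCat.of (Polynomial R)) := P.left.toSpecΓ ≫ Spec.map (CommRingCat.ofHom ψ)
  have hl : l ≫ Spec.map (CommRingCat.ofHom (Polynomial.C (R := R))) = (snd (A S) (sp r)).left := by
    rw [Category.assoc, ← Spec.map_comp]
    refine Eq.trans ?_ (AttrPtLib.toSpec_spec (snd (A S) (sp r)).left)
    congr 2
    exact CommRingCat.hom_ext (RingHom.ext fun x => Polynomial.eval₂_C β _)
  let L : P ⟶ lineObj r := Over.homMk l (by
    change l ≫ Spec.map _ ≫ r = P.hom
    rw [← Category.assoc, hl]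
    exact Over.w (snd (A S) (sp r)))
  have h2 : L ≫ chart r = 𝟙 P := by
    apply CartesianMonoidalCategory.hom_ext
    · refine coord_ext ?_
      rw [Category.id_comp, Category.assoc, chart, lift_fst, coord_comp, coord_lineVar]
      change ((Scheme.ΓSpecIso _).inv ≫ l.appTop) Polynomial.X = _
      rw [AttrPtLib.appTop_toSpec]
      exact Polynomial.eval₂_X β _
    · rw [Category.id_comp, Category.assoc, chart, lift_snd]
      exact Over.OverMorphism.ext hl
  have h1 : chart r ≫ L = 𝟙 _ := by
    refine Over.OverMorphism.ext ?_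
    change (chart r).left ≫ l = 𝟙 (Spec (CommRingCat.of (Polynomial R)))
    rw [← AttrPtLib.toSpec_spec ((chart r).left ≫ l), ← AttrPtLib.toSpec_spec (𝟙 (Spec (CommRingCat.of (Polynomial R))))]
    congr 2
    refine CommRingCat.hom_ext (Polynomial.ringHom_ext (fun a => ?_) ?_)
    · have e : ((chart r).left ≫ l).appTop (gl (Polynomial.C a)) = gl (Polynomial.C a) := by
        rw [← gl_map (Polynomial.C (R := R)) a, ← CommRingCat.comp_apply, ← Scheme.Hom.comp_appTop, Category.assoc, hl,
          ← Over.comp_left, chart, lift_snd]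
        rfl
      simpa [gl] using e
    · have e : ((chart r).left ≫ l).appTop (gl Polynomial.X) = gl Polynomial.X := by
        rw [Scheme.Hom.comp_appTop, CommRingCat.comp_apply]
        have h3 : l.appTop (gl Polynomial.X) = coord (fst (A S) (sp r)) := by
          change ((Scheme.ΓSpecIso _).inv ≫ l.appTop) Polynomial.X = _
          rw [AttrPtLib.appTop_toSpec]
          exact Polynomial.eval₂_X β _
        rw [h3]
        erw [← coord_comp]
        rw [chart, lift_fst, coord_lineVar]
      simpa [gl] using e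
  exact ⟨L, h1, h2⟩

variable (r) in
/-- Formal line. -/
abbrev serObj : Over S := sp (Spec.map (CommRingCat.ofHom (PowerSeries.C (R := R))) ≫ r)

theorem toSeries_comp_C : (toSeries R).comp Polynomial.C = PowerSeries.C := by
  ext a
  simp

variable (r) in
/-- The formal line maps to the line. -/
def serToLine : serObj r ⟶ lineObj r :=
  spHom (toSeries R) (by rw [← Category.assoc, spec_comp, toSeries_comp_C])

variable (r) in
/-- Its origin. -/
def serZero : sp r ⟶ serObj r :=
  spHom (PowerSeries.constantCoeff (R := R)) (by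
    rw [← Category.assoc, spec_comp, show (PowerSeries.constantCoeff (R := R)).comp PowerSeries.C = RingHom.id R from
      RingHom.ext fun a => PowerSeries.constantCoeff_C a, CommRingCat.ofHom_id, Spec.map_id, Category.id_comp])

variable (r) in
theorem serZero_chart : serZero r ≫ serToLine r ≫ chart r = zeroSec (sp r) := by
  rw [← Category.assoc, serZero, serToLine, spHom_comp]
  apply CartesianMonoidalCategory.hom_ext
  · refine coord_ext ?_
    rw [Category.assoc, chart, lift_fst, coord_spHom _ _ _ _ coord_lineVar, zeroSec, lift_fst, BBLib.coord_zero]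
    simp [gl]
  · rw [Category.assoc, chart, lift_snd, zeroSec, lift_snd, linePr, spHom_comp]
    refine Over.OverMorphism.ext ?_
    change Spec.map _ = 𝟙 _
    rw [show (((PowerSeries.constantCoeff (R := R)).comp (toSeries R)).comp Polynomial.C) = RingHom.id R from
      RingHom.ext fun a => by simp, CommRingCat.ofHom_id, Spec.map_id]

end EqLiftLib
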