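import Groth.Agent.BBLib.Line
import Groth.Agent.AttrPtLib.Chart

/-!
# Scalings of schemes by units and families over the affine line compatible with them
-/

set_option autoImplicit false
set_option linter.style.haveILetI false
universe u

open CategoryTheory CategoryTheory.Limits MonoidalCategory CartesianMonoidalCategory MonObj
  AlgebraicGeometry Opposite
open BBLib (coord zero zeroSec)

noncomputable section

namespace EqLiftLib

variable {S : Scheme.{u}}

/-- The affine line. -/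
abbrev A (S : Scheme.{u}) : Over S := BBLib.A S

/-- The restriction of a unit. -/
abbrev res {T T' : Over S} (u : T' ⟶ T) : Γ(T.left, ⊤)ˣ →* Γ(T'.left, ⊤)ˣ :=
  Units.map u.left.appTop.hom.toMonoidHom

/-- An action of the units of global functions on points. -/
structure Scaling (X : Over S) where
  /-- The action. -/
  op : ∀ {T : Over S}, Γ(T.left, ⊤)ˣ → (T ⟶ X) → (T ⟶ X)
  one : ∀ {T : Over S} (x : T ⟶ X), op 1 x = x
  mul : ∀ {T : Over S} (a b : Γ(T.left, ⊤)ˣ) (x : T ⟶ X), op (a * b) x = op a (op b x)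
  natural : ∀ {T T' : Over S} (u : T' ⟶ T) (a : Γ(T.left, ⊤)ˣ) (x : T ⟶ X),
    u ≫ op a x = op (res u a) (u ≫ x)

variable {X U : Over S}

/-- Compatibility of a morphism with scalings. -/
def IsScaledMap (σU : Scaling U) (σX : Scaling X) (f : U ⟶ X) : Prop :=
  ∀ (T : Over S) (a : Γ(T.left, ⊤)ˣ) (x : T ⟶ U), σU.op a x ≫ f = σX.op a (x ≫ f)

/-- A family over the affine line compatible with the scaling. -/
def IsScaled (σ : Scaling X) {P : Over S} (Φ : A S ⊗ P ⟶ X) : Prop :=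
  ∀ (T : Over S) (g h : T ⟶ A S) (p : T ⟶ P) (hg : IsUnit (coord g)),
    lift (g * h) p ≫ Φ = σ.op hg.unit (lift h p ≫ Φ)

/-- The member of a family at one. -/
def atOne {P : Over S} (Φ : A S ⊗ P ⟶ X) : P ⟶ X := lift 1 (𝟙 P) ≫ Φ

theorem comp_atOne {P T : Over S} (Φ : A S ⊗ P ⟶ X) (p : T ⟶ P) :
    p ≫ atOne Φ = lift 1 p ≫ Φ := by
  rw [atOne, ← Category.assoc, comp_lift, MonObj.comp_one, Category.comp_id]

theorem comp_zeroSec {P T : Over S} (p : T ⟶ P) : p ≫ zeroSec P = lift (zero T) p := by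
  rw [zeroSec, comp_lift, BBLib.comp_zero, Category.comp_id]

theorem IsScaled.comp {σU : Scaling U} {σX : Scaling X} {f : U ⟶ X} (hf : IsScaledMap σU σX f)
    {P : Over S} {Ψ : A S ⊗ P ⟶ U} (hΨ : IsScaled σU Ψ) : IsScaled σX (Ψ ≫ f) := by
  intro T g h p hg
  rw [← Category.assoc, hΨ T g h p hg, hf, Category.assoc]

theorem IsScaled.restrict {σ : Scaling X} {P Q : Over S} {Φ : A S ⊗ P ⟶ X} (hΦ : IsScaled σ Φ)
    (e : Q ⟶ P) : IsScaled σ ((A S ◁ e) ≫ Φ) := by
  intro T g h p hg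
  rw [lift_whiskerLeft_assoc, lift_whiskerLeft_assoc]
  exact hΦ T g h (p ≫ e) hg

theorem atOne_eq_of_eq_open {σ : Scaling X} {P : Over S} {Φ₁ Φ₂ : A S ⊗ P ⟶ X}
    (h₁ : IsScaled σ Φ₁) (h₂ : IsScaled σ Φ₂) (O : (A S ⊗ P).left.Opens)
    (hO : ∀ p, (zeroSec P).left p ∈ O) (he : O.ι ≫ Φ₁.left = O.ι ≫ Φ₂.left) :
    atOne Φ₁ = atOne Φ₂ := by
  obtain ⟨Q, q, hu, hq, hfl, hsu, -⟩ := BBLib.exists_cover O hO
  have hq' : Set.range q.left ⊆ Set.range O.ι := by rwa [Scheme.Opens.range_ι]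
  have heq : q ≫ Φ₁ = q ≫ Φ₂ := Over.OverMorphism.ext (by
    rw [Over.comp_left, Over.comp_left, ← IsOpenImmersion.lift_fac O.ι q.left hq']
    exact (Category.assoc _ _ _).trans
      ((congrArg (IsOpenImmersion.lift O.ι q.left hq' ≫ ·) he).trans (Category.assoc _ _ _).symm))
  have hval : ∀ {Φ : A S ⊗ P ⟶ X}, IsScaled σ Φ →
      σ.op hu.unit⁻¹ (q ≫ Φ) = (q ≫ snd _ _) ≫ atOne Φ := by
    intro Φ hΦ
    have h := hΦ Q (q ≫ fst _ _) 1 (q ≫ snd _ _) hu
    rw [_root_.mul_one, lift_comp_fst_snd, ← comp_atOne] at h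
    rw [h, ← σ.mul, inv_mul_cancel, σ.one]
  have key : (q ≫ snd _ _) ≫ atOne Φ₁ = (q ≫ snd _ _) ≫ atOne Φ₂ := by
    rw [← hval h₁, ← hval h₂, heq]
  haveI := Flat.epi_of_flat_of_surjective (q ≫ snd (A S) P).left
  refine Over.OverMorphism.ext ?_
  rw [← cancel_epi (q ≫ snd (A S) P).left, ← Over.comp_left, ← Over.comp_left, key]

/-- The translate of a family by a point of the line. -/
def translate {P : Over S} (Φ : A S ⊗ P ⟶ X) {T : Over S} (h : T ⟶ A S) (p : T ⟶ P) :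
    A S ⊗ T ⟶ X :=
  lift (fst _ _ * (snd _ _ ≫ h)) (snd _ _ ≫ p) ≫ Φ

theorem lift_translate {P : Over S} (Φ : A S ⊗ P ⟶ X) {T T' : Over S} (h : T ⟶ A S) (p : T ⟶ P)
    (g : T' ⟶ A S) (t : T' ⟶ T) :
    lift g t ≫ translate Φ h p = lift (g * (t ≫ h)) (t ≫ p) ≫ Φ := by
  rw [translate, ← Category.assoc, comp_lift, MonObj.comp_mul, lift_fst, ← Category.assoc, lift_snd,
    ← Category.assoc, lift_snd]

theorem atOne_translate {P : Over S} (Φ : A S ⊗ P ⟶ X) {T : Over S} (h : T ⟶ A S) (p : T ⟶ P) :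
    atOne (translate Φ h p) = lift h p ≫ Φ := by
  rw [atOne, lift_translate, _root_.one_mul, Category.id_comp, Category.id_comp]

theorem IsScaled.translate {σ : Scaling X} {P : Over S} {Φ : A S ⊗ P ⟶ X} (hΦ : IsScaled σ Φ)
    {T : Over S} (h : T ⟶ A S) (p : T ⟶ P) : IsScaled σ (EqLiftLib.translate Φ h p) := by
  intro T' g g' t hg
  rw [lift_translate, lift_translate, _root_.mul_assoc]
  exact hΦ T' g _ _ hg

theorem eq_of_eq_open {σ : Scaling X} {P : Over S} {Φ₁ Φ₂ : A S ⊗ P ⟶ X}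
    (h₁ : IsScaled σ Φ₁) (h₂ : IsScaled σ Φ₂) (O : (A S ⊗ P).left.Opens)
    (hO : ∀ p, (zeroSec P).left p ∈ O) (he : O.ι ≫ Φ₁.left = O.ι ≫ Φ₂.left) : Φ₁ = Φ₂ := by
  let T := A S ⊗ P
  let m : A S ⊗ T ⟶ T := lift (fst _ _ * (snd _ _ ≫ fst _ _)) (snd _ _ ≫ snd _ _)
  let O' : (A S ⊗ T).left.Opens := m.left ⁻¹ᵁ O
  have hO' : ∀ t, (zeroSec T).left t ∈ O' := fun t => by
    have hm : zeroSec T ≫ m = snd _ _ ≫ zeroSec P := by
      rw [comp_zeroSec, zeroSec, comp_lift, MonObj.comp_mul, lift_fst, BBLib.zero_mul_pt, ← Category.assoc,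
        lift_snd, Category.id_comp]
    change (zeroSec T ≫ m).left t ∈ O
    rw [hm]
    exact hO _
  have he' : O'.ι ≫ (translate Φ₁ (fst _ _) (snd _ _)).left =
      O'.ι ≫ (translate Φ₂ (fst _ _) (snd _ _)).left := by
    change O'.ι ≫ m.left ≫ Φ₁.left = O'.ι ≫ m.left ≫ Φ₂.left
    rw [← morphismRestrict_ι_assoc, ← morphismRestrict_ι_assoc, he]
  have key := atOne_eq_of_eq_open (h₁.translate (fst _ _) (snd _ _)) (h₂.translate _ _) O' hO' he'
  rwa [atOne_translate, atOne_translate, lift_fst_snd, Category.id_comp, Category.id_comp] at key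

/-- Lifts of a family along an unramified morphism are determined by their values at zero. -/
theorem eq_of_comp_eq {σU : Scaling U} (f : U ⟶ X) [FormallyUnramified f.left] [LocallyOfFiniteType f.left]
    {P : Over S} {Ψ₁ Ψ₂ : A S ⊗ P ⟶ U} (h₁ : IsScaled σU Ψ₁) (h₂ : IsScaled σU Ψ₂)
    (hf : Ψ₁ ≫ f = Ψ₂ ≫ f) (h0 : zeroSec P ≫ Ψ₁ = zeroSec P ≫ Ψ₂) : Ψ₁ = Ψ₂ := by
  let g := f.left
  haveI : IsOpenImmersion (pullback.diagonal g) := inferInstance
  let e : (A S ⊗ P).left ⟶ pullback g g :=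
    pullback.lift Ψ₁.left Ψ₂.left (congrArg CommaMorphism.left hf)
  let O : (A S ⊗ P).left.Opens := e ⁻¹ᵁ (pullback.diagonal g).opensRange
  have hO : ∀ p, (zeroSec P).left p ∈ O := fun p => by
    have hs : (zeroSec P).left ≫ e = ((zeroSec P).left ≫ Ψ₁.left) ≫ pullback.diagonal g := by
      apply pullback.hom_ext
      · rw [Category.assoc, pullback.lift_fst, Category.assoc, pullback.diagonal_fst, Category.comp_id]
      · rw [Category.assoc, pullback.lift_snd, Category.assoc, pullback.diagonal_snd, Category.comp_id]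
        exact (congrArg CommaMorphism.left h0).symm
    refine ⟨((zeroSec P).left ≫ Ψ₁.left) p, ?_⟩
    rw [← Scheme.Hom.comp_apply, ← hs]
    rfl
  refine eq_of_eq_open h₁ h₂ O hO ?_
  have hr : Set.range (O.ι ≫ e) ⊆ Set.range (pullback.diagonal g) := by
    rintro _ ⟨w, rfl⟩
    exact w.2
  have hd := IsOpenImmersion.lift_fac (pullback.diagonal g) (O.ι ≫ e) hr
  have e1 := hd =≫ pullback.fst g g
  have e2 := hd =≫ pullback.snd g g
  simp only [Category.assoc, pullback.diagonal_fst, pullback.diagonal_snd, Category.comp_id, e,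
    pullback.lift_fst, pullback.lift_snd] at e1 e2
  rw [← e1, ← e2]

end EqLiftLib
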