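import Groth.Agent.AttrPtLib.Points
import Groth.Prelude.Def_Magnet4
import Mathlib.AlgebraicGeometry.AffineTransitionLimit
import Mathlib.Order.ULift

/-!
# Diagonalizable monoids of directed unions of submonoids as limits
-/

set_option autoImplicit false
set_option linter.style.haveILetI false
universe u

open CategoryTheory CategoryTheory.Limits MonoidalCategory CartesianMonoidalCategory MonObj
  AlgebraicGeometry Opposite
open Magnet
open AttrPtLib (chi chi_ext chi_map chi_comp exists_chi chi_zero chi_add)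

noncomputable section

namespace EqLiftLib

set_option maxHeartbeats 1000000

variable {S : Scheme.{u}} {M : Type} [AddCommMonoid M]

/-- The map of products induced by an inclusion of submonoids. -/
def inc {N L : AddSubmonoid M} (h : N ≤ L) (T : Over S) : AMonS S ↥L ⊗ T ⟶ AMonS S ↥N ⊗ T :=
  AMonS.map S (AddSubmonoid.inclusion h) ▷ T

theorem inc_comp {N L K : AddSubmonoid M} (h : N ≤ L) (h' : L ≤ K) (T : Over S) :
    inc h' T ≫ inc h T = inc (h.trans h') T := by
  rw [inc, inc, inc, ← comp_whiskerRight, ← AMonS.map_comp]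
  rfl

set_option backward.isDefEq.respectTransparency.types false in
theorem isAffine_amonS_tensor (N : Type) [AddCommMonoid N] (T : Over S) [IsAffine T.left] :
    IsAffine (AMonS S N ⊗ T).left := by
  haveI : IsAffine (AMon (ULift.{u} ℤ) N).left := inferInstanceAs (IsAffine (Spec _))
  haveI h₀ : IsAffineHom (AMon (ULift.{u} ℤ) N).hom := isAffineHom_of_isAffine _
  haveI h₁ : IsAffineHom (AMonS S N).hom := MorphismProperty.pullback_snd _ _ h₀
  haveI : IsAffineHom (pullback.snd (AMonS S N).hom T.hom) := MorphismProperty.pullback_snd _ _ h₁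
  exact isAffine_of_isAffineHom (pullback.snd (AMonS S N).hom T.hom)

/-- A directed system of submonoids exhausting a submonoid. -/
structure Exhaustion (L : AddSubmonoid M) (J : Type) [Preorder J] where
  /-- The members. -/
  N : J → AddSubmonoid M
  mono : Monotone N
  le : ∀ j, N j ≤ L
  exists_mem : ∀ x ∈ L, ∃ j, x ∈ N j

variable {L : AddSubmonoid M} {J : Type} [Preorder J] (E : Exhaustion L J) (T : Over S)

/-- The diagram of products. -/
def Exhaustion.diagram : (ULift.{u} J)ᵒᵖ ⥤ Scheme.{u} where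
  obj i := (AMonS S ↥(E.N i.unop.down) ⊗ T).left
  map {i k} f := (inc (E.mono (ULift.down_le.mpr (leOfHom f.unop))) T).left
  map_id i := by
    rw [show inc (E.mono (ULift.down_le.mpr (leOfHom (𝟙 i.unop)))) T = 𝟙 (AMonS S ↥(E.N i.unop.down) ⊗ T) from ?_]
    · rfl
    apply CartesianMonoidalCategory.hom_ext
    · rw [inc, whiskerRight_fst, Category.id_comp]
      refine chi_ext fun m => ?_
      rw [chi_map]
      rfl
    · rw [inc, whiskerRight_snd, Category.id_comp]
  map_comp {i k l} f g := by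
    rw [← Over.comp_left, inc_comp]

/-- The limit cone. -/
def Exhaustion.cone : Cone (E.diagram T) where
  pt := (AMonS S ↥L ⊗ T).left
  π :=
    { app := fun i => (inc (E.le i.unop.down) T).left
      naturality := fun i k f => by
        change 𝟙 _ ≫ _ = (inc (E.le i.unop.down) T).left ≫ (inc _ T).left
        rw [Category.id_comp, ← Over.comp_left, inc_comp] }

/-- The structure map of the diagram. -/
def Exhaustion.toBase : E.diagram T ⟶ (Functor.const _).obj S where
  app i := (AMonS S ↥(E.N i.unop.down) ⊗ T).hom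
  naturality i k f := by
    simp only [Functor.const_obj_map, Category.comp_id]
    exact Over.w (inc (E.mono (ULift.down_le.mpr (leOfHom f.unop))) T)

theorem Exhaustion.existsUnique_point [IsDirected J (· ≤ ·)] [Nonempty J] {P : Over S}
    (x : ∀ j, P ⟶ AMonS S ↥(E.N j) ⊗ T)
    (hx : ∀ {j k : J} (h : j ≤ k), x k ≫ inc (E.mono h) T = x j) :
    ∃! y : P ⟶ AMonS S ↥L ⊗ T, ∀ j, y ≫ inc (E.le j) T = x j := by
  classical
  let j₀ : J := Classical.arbitrary J
  have hxT : ∀ j : J, x j ≫ snd _ _ = x j₀ ≫ snd _ _ := fun j => by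
    obtain ⟨k, hjk, h0k⟩ := directed_of (· ≤ ·) j j₀
    rw [← hx hjk, ← hx h0k, Category.assoc, Category.assoc, inc, inc, whiskerRight_snd, whiskerRight_snd]
  have hchi : ∀ (m : ↥L) (j k : J) (hj : (m : M) ∈ E.N j) (hk : (m : M) ∈ E.N k),
      chi (x j ≫ fst _ _) ⟨m, hj⟩ = chi (x k ≫ fst _ _) ⟨m, hk⟩ := fun m j k hj hk => by
    obtain ⟨l, hjl, hkl⟩ := directed_of (· ≤ ·) j k
    rw [← hx hjl, ← hx hkl, Category.assoc, Category.assoc, inc, inc, whiskerRight_fst, whiskerRight_fst,
      ← Category.assoc, ← Category.assoc, chi_map, chi_map]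
    rfl
  choose jm hjm using E.exists_mem
  let c : Multiplicative ↥L →* Γ(P.left, ⊤) :=
    { toFun := fun m => chi (x (jm _ (Multiplicative.toAdd m).2) ≫ fst _ _) ⟨_, hjm _ (Multiplicative.toAdd m).2⟩
      map_one' := chi_zero (x (jm _ L.zero_mem) ≫ fst _ _)
      map_mul' := fun a b => by
        obtain ⟨l, hal, hbl⟩ := directed_of (· ≤ ·) (jm _ (Multiplicative.toAdd a).2)
          (jm _ (Multiplicative.toAdd b).2)
        have ha : ((Multiplicative.toAdd a : ↥L) : M) ∈ E.N l := E.mono hal (hjm _ _)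
        have hb : ((Multiplicative.toAdd b : ↥L) : M) ∈ E.N l := E.mono hbl (hjm _ _)
        change chi (x (jm _ (Multiplicative.toAdd a + Multiplicative.toAdd b).2) ≫ fst _ _)
          ⟨_, hjm _ (Multiplicative.toAdd a + Multiplicative.toAdd b).2⟩ = _
        rw [hchi (Multiplicative.toAdd a + Multiplicative.toAdd b) _ l _ ((E.N l).add_mem ha hb),
          hchi (Multiplicative.toAdd a) _ l _ ha, hchi (Multiplicative.toAdd b) _ l _ hb]
        exact chi_add (x l ≫ fst _ _) ⟨_, ha⟩ ⟨_, hb⟩ }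
  obtain ⟨g, hg⟩ := exists_chi (S := S) P c
  have hgv : ∀ (n : ↥L) (j : J) (hj : (n : M) ∈ E.N j), chi g n = chi (x j ≫ fst _ _) ⟨n, hj⟩ :=
    fun n j hj => (hg n).trans (hchi n (jm _ n.2) j (hjm _ n.2) hj)
  refine ⟨lift g (x j₀ ≫ snd _ _), fun j => ?_, fun y hy => ?_⟩
  · rw [inc, lift_whiskerRight, ← lift_comp_fst_snd (x j), ← hxT j]
    congr 1
    refine chi_ext fun m => ?_
    rw [chi_map, hgv (AddSubmonoid.inclusion (E.le j) m) j (show (m : M) ∈ E.N j from m.2)]
    rfl
  · apply CartesianMonoidalCategory.hom_ext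
    · rw [lift_fst]
      refine chi_ext fun n => ?_
      rw [hgv n _ (hjm _ n.2), ← hy, Category.assoc, inc, whiskerRight_fst, ← Category.assoc, chi_map]
      rfl
    · rw [lift_snd, ← hy j₀, Category.assoc, inc, whiskerRight_snd]

theorem Exhaustion.cone_w (s : Cone (E.diagram T)) {j k : J} (h : j ≤ k) :
    s.π.app (op ⟨k⟩) ≫ (inc (E.mono h) T).left = s.π.app (op ⟨j⟩) :=
  s.w (homOfLE (show (⟨j⟩ : ULift.{u} J) ≤ ⟨k⟩ from h)).op

theorem Exhaustion.isLimit [IsDirected J (· ≤ ·)] [Nonempty J] : Nonempty (IsLimit (E.cone T)) := by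
  classical
  refine ⟨?_⟩
  let j₀ : J := Classical.arbitrary J
  have hstr : ∀ (s : Cone (E.diagram T)) (j : J),
      s.π.app (op ⟨j⟩) ≫ (AMonS S ↥(E.N j) ⊗ T).hom = s.π.app (op ⟨j₀⟩) ≫ (AMonS S ↥(E.N j₀) ⊗ T).hom :=
    fun s j => by
    obtain ⟨k, hjk, h0k⟩ := directed_of (· ≤ ·) j j₀
    rw [← E.cone_w T s hjk, ← E.cone_w T s h0k]
    exact (Category.assoc _ _ _).trans ((congrArg (s.π.app (op ⟨k⟩) ≫ ·)
      ((Over.w (inc (E.mono hjk) T)).trans (Over.w (inc (E.mono h0k) T)).symm)).trans (Category.assoc _ _ _).symm)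
  let P : Cone (E.diagram T) → Over S := fun s => Over.mk (s.π.app (op ⟨j₀⟩) ≫ (AMonS S ↥(E.N j₀) ⊗ T).hom)
  have hu := fun s : Cone (E.diagram T) => E.existsUnique_point T (P := P s)
    (fun j => Over.homMk (s.π.app (op ⟨j⟩)) (hstr s j))
    (fun h => Over.OverMorphism.ext (E.cone_w T s h))
  refine
    { lift := fun s => (hu s).choose.left
      fac := fun s i => congrArg CommaMorphism.left ((hu s).choose_spec.1 i.unop.down)
      uniq := fun s m hm => ?_ }
  have hw : m ≫ (AMonS S ↥L ⊗ T).hom = (P s).hom := by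
    change _ = s.π.app (op ⟨j₀⟩) ≫ _
    rw [← hm (op ⟨j₀⟩)]
    exact (congrArg (m ≫ ·) (Over.w (inc (E.le j₀) T)).symm).trans (Category.assoc _ _ _).symm
  let y : P s ⟶ AMonS S ↥L ⊗ T := Over.homMk m hw
  exact congrArg CommaMorphism.left
    ((hu s).choose_spec.2 y fun j => Over.OverMorphism.ext (hm (op ⟨j⟩)))

variable [IsDirected J (· ≤ ·)] [Nonempty J] [IsAffine T.left] {X : Over S}

instance isDirected_ulift : IsDirectedOrder (ULift.{u} J) :=
  ⟨fun a b => (directed_of (· ≤ ·) a.down b.down).elim fun c hc => ⟨⟨c⟩, hc.1, hc.2⟩⟩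

/-- Morphisms out of the limit factor through a stage. -/
theorem Exhaustion.exists_factor [LocallyOfFinitePresentation X.hom] (γ : AMonS S ↥L ⊗ T ⟶ X) :
    ∃ (j : J) (γ' : AMonS S ↥(E.N j) ⊗ T ⟶ X), inc (E.le j) T ≫ γ' = γ := by
  haveI haff : ∀ i, IsAffine ((E.diagram T).obj i) := fun i => isAffine_amonS_tensor _ T
  haveI : ∀ {i k : (ULift.{u} J)ᵒᵖ} (f : i ⟶ k), IsAffineHom ((E.diagram T).map f) := fun f => inferInstance
  obtain ⟨hc⟩ := E.isLimit T
  obtain ⟨i, g, hg, hgf⟩ := Scheme.exists_π_app_comp_eq_of_locallyOfFinitePresentation (E.diagram T)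
    (E.toBase T) X.hom (E.cone T) hc γ.left (by
      ext i
      exact (Over.w (inc (E.le i.unop.down) T)).trans (Over.w γ).symm)
  exact ⟨i.unop.down, Over.homMk g hgf, Over.OverMorphism.ext hg⟩

/-- Morphisms agreeing on the limit agree at a later stage. -/
theorem Exhaustion.exists_eq [LocallyOfFiniteType X.hom] {j : J} (a b : AMonS S ↥(E.N j) ⊗ T ⟶ X)
    (h : inc (E.le j) T ≫ a = inc (E.le j) T ≫ b) :
    ∃ (k : J) (hjk : j ≤ k), inc (E.mono hjk) T ≫ a = inc (E.mono hjk) T ≫ b := by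
  haveI haff : ∀ i, IsAffine ((E.diagram T).obj i) := fun i => isAffine_amonS_tensor _ T
  haveI : ∀ {i k : (ULift.{u} J)ᵒᵖ} (f : i ⟶ k), IsAffineHom ((E.diagram T).map f) := fun f => inferInstance
  obtain ⟨hc⟩ := E.isLimit T
  obtain ⟨k, hk, he⟩ := Scheme.exists_hom_comp_eq_comp_of_locallyOfFiniteType (E.diagram T)
    (E.toBase T) X.hom (E.cone T) hc (i := op ⟨j⟩) a.left b.left (Over.w a).symm (Over.w b).symm
    (congrArg CommaMorphism.left h)
  exact ⟨k.unop.down, ULift.down_le.mpr (leOfHom hk.unop), Over.OverMorphism.ext he⟩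

end EqLiftLib
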