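import Groth.Agent.EqLiftLib.Face
import Groth.Agent.EqLiftLib.Fam
import Groth.Agent.EqLiftLib.Glue

/-!
# Attractors along a face and étale equivariant morphisms: monoids that are not finitely generated
-/

set_option autoImplicit false
set_option linter.style.haveILetI false
universe u

open CategoryTheory CategoryTheory.Limits MonoidalCategory CartesianMonoidalCategory MonObj
  AlgebraicGeometry Opposite
open Magnet
open AttrPtLib (chi chi_ext chi_map)

noncomputable section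

namespace EqLiftLib

set_option maxHeartbeats 1000000
set_option backward.isDefEq.respectTransparency.types true

variable {S : Scheme.{u}} {M : Type} [AddCommGroup M] {X U T : Over S} {N L : AddSubmonoid M}

theorem faceMap_inc {N' Q Q' : AddSubmonoid M} (hQ : IsFace N Q) (hQ' : IsFace N' Q') (hN : N' ≤ N)
    (hQQ : Q' ≤ Q) (hiff : ∀ n ∈ N', n ∈ Q → n ∈ Q') (T : Over S) :
    (AMonS.faceMap S hQ ▷ T) ≫ inc hN T = inc hQQ T ≫ (AMonS.faceMap S hQ' ▷ T) := by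
  rw [inc, inc, ← comp_whiskerRight, ← comp_whiskerRight]
  congr 1
  apply hom_ext_lift₁
  intro T' g
  refine chi_ext fun n => ?_
  rw [← Category.assoc, chi_map, ← Category.assoc, chi_faceMap hQ, chi_faceMap hQ']
  by_cases h : (n : M) ∈ Q'
  · rw [dif_pos h, dif_pos (show ((AddSubmonoid.inclusion hN n : ↥N) : M) ∈ Q from hQQ h), chi_map]
    rfl
  · rw [dif_neg h, dif_neg fun hc : ((AddSubmonoid.inclusion hN n : ↥N) : M) ∈ Q => h (hiff _ n.2 hc)]
where
  hom_ext_lift₁ {P Z : Over S} {f g : P ⟶ Z} (h : ∀ (T : Over S) (p : T ⟶ P), p ≫ f = p ≫ g) : f = g := by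
    simpa using h P (𝟙 P)

/-- The exhaustion by submonoids generated by finite subsets. -/
def finExhaustion (N : AddSubmonoid M) : Exhaustion N (Finset ↥N) where
  N F := AddSubmonoid.closure (Subtype.val '' (F : Set ↥N))
  mono F G h := AddSubmonoid.closure_mono (Set.image_mono (Finset.coe_subset.mpr h))
  le F := AddSubmonoid.closure_le.mpr fun x hx => by
    obtain ⟨y, -, rfl⟩ := hx
    exact y.2
  exists_mem x hx := ⟨{⟨x, hx⟩}, AddSubmonoid.subset_closure ⟨⟨x, hx⟩, Finset.mem_coe.mpr (Finset.mem_singleton_self _), rfl⟩⟩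

theorem finExhaustion_fg (N : AddSubmonoid M) (F : Finset ↥N) : ((finExhaustion N).N F).FG := by
  classical
  exact ⟨F.image Subtype.val, by rw [Finset.coe_image]; rfl⟩

/-- The exhaustion of a face. -/
def finExhaustionFace {N Q : AddSubmonoid M} (hQ : IsFace N Q) : Exhaustion Q (Finset ↥N) where
  N F := Q ⊓ (finExhaustion N).N F
  mono F G h := inf_le_inf le_rfl ((finExhaustion N).mono h)
  le F := inf_le_left
  exists_mem x hx := ((finExhaustion N).exists_mem x (hQ.le hx)).imp fun _ h => ⟨hx, h⟩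

theorem isFace_finExhaustion {N Q : AddSubmonoid M} (hQ : IsFace N Q) (F : Finset ↥N) :
    IsFace ((finExhaustion N).N F) ((finExhaustionFace hQ).N F) where
  le := inf_le_right
  mem_of_add_mem x hx y hy hxy :=
    have h := hQ.mem_of_add_mem x ((finExhaustion N).le F hx) y ((finExhaustion N).le F hy) hxy.1
    ⟨⟨h.1, hx⟩, ⟨h.2, hy⟩⟩

variable [AddGroup.FG M] {Q : AddSubmonoid M} {aX : MonAct (AMonS S M) X} {aU : MonAct (AMonS S M) U}
  {f : U ⟶ X} [Etale f.left]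

theorem locallyOfFinitePresentation_of_etale (f : U ⟶ X) [Etale f.left] [LocallyOfFinitePresentation X.hom] :
    LocallyOfFinitePresentation U.hom := by
  rw [← Over.w f]
  infer_instance

theorem eq_of_face_affine [IsAffine T.left] [LocallyOfFinitePresentation X.hom] (hQ : IsFace N Q)
    {δ₁ δ₂ : AMonS S ↥N ⊗ T ⟶ U} (h₁ : IsEqvFam aU δ₁) (h₂ : IsEqvFam aU δ₂) (hf : δ₁ ≫ f = δ₂ ≫ f)
    (h0 : (AMonS.faceMap S hQ ▷ T) ≫ δ₁ = (AMonS.faceMap S hQ ▷ T) ≫ δ₂) : δ₁ = δ₂ := by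
  classical
  haveI := locallyOfFinitePresentation_of_etale f
  let E := finExhaustion N
  let EQ := finExhaustionFace hQ
  have hsq : ∀ F, (AMonS.faceMap S hQ ▷ T) ≫ inc (E.le F) T =
      inc (EQ.le F) T ≫ (AMonS.faceMap S (isFace_finExhaustion hQ F) ▷ T) := fun F =>
    faceMap_inc hQ (isFace_finExhaustion hQ F) (E.le F) (EQ.le F) (fun n hn hnQ => ⟨hnQ, hn⟩) T
  obtain ⟨j₁, d₁, hd₁, e₁⟩ := E.exists_eqv_factor h₁
  obtain ⟨j₂, d₂, hd₂, e₂⟩ := E.exists_eqv_factor h₂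
  obtain ⟨j, hj₁, hj₂⟩ : ∃ j, j₁ ≤ j ∧ j₂ ≤ j :=
    ⟨j₁ ∪ j₂, Finset.subset_union_left, Finset.subset_union_right⟩
  obtain ⟨k, hjk, hk⟩ := E.exists_eq T ((inc (E.mono hj₁) T ≫ d₁) ≫ f) ((inc (E.mono hj₂) T ≫ d₂) ≫ f) (by
    simp only [← Category.assoc, inc_comp, e₁, e₂, hf])
  let c₁ := inc (E.mono (hj₁.trans hjk)) T ≫ d₁
  let c₂ := inc (E.mono (hj₂.trans hjk)) T ≫ d₂
  have ec₁ : inc (E.le k) T ≫ c₁ = δ₁ := by rw [← Category.assoc, inc_comp, e₁]
  have ec₂ : inc (E.le k) T ≫ c₂ = δ₂ := by rw [← Category.assoc, inc_comp, e₂]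
  have hcf : c₁ ≫ f = c₂ ≫ f := by
    simpa only [c₁, c₂, ← Category.assoc, inc_comp] using hk
  obtain ⟨l, hkl, hl⟩ := EQ.exists_eq T ((AMonS.faceMap S (isFace_finExhaustion hQ k) ▷ T) ≫ c₁)
    ((AMonS.faceMap S (isFace_finExhaustion hQ k) ▷ T) ≫ c₂) (by
      rw [← Category.assoc, ← hsq, Category.assoc, ec₁, h0, ← ec₂, ← Category.assoc, hsq, Category.assoc])
  have hsq' : inc (EQ.mono hkl) T ≫ (AMonS.faceMap S (isFace_finExhaustion hQ k) ▷ T) =
      (AMonS.faceMap S (isFace_finExhaustion hQ l) ▷ T) ≫ inc (E.mono hkl) T :=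
    (faceMap_inc (isFace_finExhaustion hQ l) (isFace_finExhaustion hQ k) (E.mono hkl) (EQ.mono hkl)
      (fun n hn hnQ => ⟨hnQ.1, hn⟩) T).symm
  have key := eq_of_face (f := f) (isFace_finExhaustion hQ l) (finExhaustion_fg N l)
    ((hd₁.inc (E.mono (hj₁.trans hjk))).inc (E.mono hkl)) ((hd₂.inc (E.mono (hj₂.trans hjk))).inc (E.mono hkl))
    (((Category.assoc _ _ _).trans (congrArg (inc (E.mono hkl) T ≫ ·) hcf)).trans (Category.assoc _ _ _).symm)
    (show _ ≫ inc (E.mono hkl) T ≫ c₁ = _ ≫ inc (E.mono hkl) T ≫ c₂ by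
      rw [← Category.assoc, ← hsq', Category.assoc, hl, ← Category.assoc, hsq', Category.assoc])
  rw [← ec₁, ← ec₂, ← inc_comp (E.mono hkl) (E.le l), Category.assoc, Category.assoc]
  exact congrArg _ key

theorem exists_face_affine [IsAffine T.left] [IsAffineHom U.hom] [LocallyOfFinitePresentation X.hom]
    (hf : MonAct.IsEquivariant aU aX f) (hQ : IsFace N Q) (γ : AMonS S ↥N ⊗ T ⟶ X) (u : AMonS S ↥Q ⊗ T ⟶ U)
    (hγ : IsEqvFam aX γ) (hu : IsEqvFam aU u) (hcomp : u ≫ f = (AMonS.faceMap S hQ ▷ T) ≫ γ) :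
    ∃ δ : AMonS S ↥N ⊗ T ⟶ U, IsEqvFam aU δ ∧ δ ≫ f = γ ∧ (AMonS.faceMap S hQ ▷ T) ≫ δ = u := by
  classical
  haveI := locallyOfFinitePresentation_of_etale f
  let E := finExhaustion N
  let EQ := finExhaustionFace hQ
  have hsq : ∀ F, (AMonS.faceMap S hQ ▷ T) ≫ inc (E.le F) T =
      inc (EQ.le F) T ≫ (AMonS.faceMap S (isFace_finExhaustion hQ F) ▷ T) := fun F =>
    faceMap_inc hQ (isFace_finExhaustion hQ F) (E.le F) (EQ.le F) (fun n hn hnQ => ⟨hnQ, hn⟩) T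
  obtain ⟨j₁, g, hg, eg⟩ := E.exists_eqv_factor hγ
  obtain ⟨j₂, v, hv, ev⟩ := EQ.exists_eqv_factor hu
  obtain ⟨j, hj₁, hj₂⟩ : ∃ j, j₁ ≤ j ∧ j₂ ≤ j :=
    ⟨j₁ ∪ j₂, Finset.subset_union_left, Finset.subset_union_right⟩
  obtain ⟨k, hjk, hk⟩ := EQ.exists_eq T ((inc (EQ.mono hj₂) T ≫ v) ≫ f)
    ((AMonS.faceMap S (isFace_finExhaustion hQ j) ▷ T) ≫ inc (E.mono hj₁) T ≫ g) (by
      rw [← Category.assoc, ← Category.assoc, inc_comp, ev, hcomp, ← Category.assoc (inc (EQ.le j) T), ← hsq,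
        Category.assoc, ← Category.assoc (inc (E.le j) T), inc_comp, eg])
  have hsq' : inc (EQ.mono hjk) T ≫ (AMonS.faceMap S (isFace_finExhaustion hQ j) ▷ T) =
      (AMonS.faceMap S (isFace_finExhaustion hQ k) ▷ T) ≫ inc (E.mono hjk) T :=
    (faceMap_inc (isFace_finExhaustion hQ k) (isFace_finExhaustion hQ j) (E.mono hjk) (EQ.mono hjk)
      (fun n hn hnQ => ⟨hnQ.1, hn⟩) T).symm
  obtain ⟨d, hd, hdf, hd0⟩ := exists_face hf (isFace_finExhaustion hQ k) (finExhaustion_fg N k)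
    (inc (E.mono hjk) T ≫ inc (E.mono hj₁) T ≫ g) (inc (EQ.mono hjk) T ≫ inc (EQ.mono hj₂) T ≫ v)
    ((hg.inc _).inc _) ((hv.inc _).inc _) (by
      rw [Category.assoc, hk, ← Category.assoc, hsq', Category.assoc])
  refine ⟨inc (E.le k) T ≫ d, IsEqvFam.inc _ hd, ?_, ?_⟩
  · rw [Category.assoc, hdf, ← Category.assoc, inc_comp, ← Category.assoc, inc_comp, eg]
  · rw [← Category.assoc, hsq, Category.assoc, hd0, ← Category.assoc, inc_comp, ← Category.assoc, inc_comp, ev]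

theorem IsEqvFam.restrict {a : MonAct (AMonS S M) X} {γ : AMonS S ↥N ⊗ T ⟶ X} (hγ : IsEqvFam a γ) {T' : Over S}
    (e : T' ⟶ T) : IsEqvFam a ((AMonS S ↥N ◁ e) ≫ γ) := by
  rw [IsEqvFam, MonAct.mem_eqvHom_iff] at hγ ⊢
  intro R g b t
  rw [lift_whiskerLeft_assoc, lift_whiskerLeft_assoc]
  exact hγ R g b (t ≫ e)

theorem eq_of_face_of_lfp [LocallyOfFinitePresentation X.hom] (hQ : IsFace N Q)
    {δ₁ δ₂ : AMonS S ↥N ⊗ T ⟶ U} (h₁ : IsEqvFam aU δ₁) (h₂ : IsEqvFam aU δ₂) (hf : δ₁ ≫ f = δ₂ ≫ f)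
    (h0 : (AMonS.faceMap S hQ ▷ T) ≫ δ₁ = (AMonS.faceMap S hQ ▷ T) ≫ δ₂) : δ₁ = δ₂ := by
  refine hom_ext_cover (snd _ _) (fun i : T.left.affineOpens => (i : T.left.Opens))
    T.left.isBasis_affineOpens.isOpenCover fun i R z y hy => ?_
  haveI : IsAffine (Over.mk ((i : T.left.Opens).ι ≫ T.hom)).left := i.2
  let κ : Over.mk ((i : T.left.Opens).ι ≫ T.hom) ⟶ T := Over.homMk (i : T.left.Opens).ι rfl
  have key := eq_of_face_affine (f := f) hQ (h₁.restrict κ) (h₂.restrict κ)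
    (by rw [Category.assoc, Category.assoc, hf])
    (by rw [← Category.assoc, ← whisker_exchange, Category.assoc, h0, ← Category.assoc, whisker_exchange,
      Category.assoc])
  have h := congrArg (lift (z ≫ fst _ _) y ≫ ·) key
  simp only [lift_whiskerLeft_assoc] at h
  rwa [hy, lift_comp_fst_snd] at h

theorem exists_face_of_lfp [IsAffineHom U.hom] [LocallyOfFinitePresentation X.hom]
    (hf : MonAct.IsEquivariant aU aX f) (hQ : IsFace N Q) (γ : AMonS S ↥N ⊗ T ⟶ X) (u : AMonS S ↥Q ⊗ T ⟶ U)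
    (hγ : IsEqvFam aX γ) (hu : IsEqvFam aU u) (hcomp : u ≫ f = (AMonS.faceMap S hQ ▷ T) ≫ γ) :
    ∃ δ : AMonS S ↥N ⊗ T ⟶ U, IsEqvFam aU δ ∧ δ ≫ f = γ ∧ (AMonS.faceMap S hQ ▷ T) ≫ δ = u := by
  let Qs : T.left.affineOpens → T.left.Opens := fun i => i
  have hcov : TopologicalSpace.IsOpenCover Qs := T.left.isBasis_affineOpens.isOpenCover
  let κ : ∀ i, Over.mk ((Qs i).ι ≫ T.hom) ⟶ T := fun i => Over.homMk (Qs i).ι rfl
  haveI : ∀ i, IsAffine (Over.mk ((Qs i).ι ≫ T.hom)).left := fun i => i.2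
  choose d hd hdf hd0 using fun i => exists_face_affine hf hQ ((AMonS S ↥N ◁ κ i) ≫ γ)
    ((AMonS S ↥Q ◁ κ i) ≫ u) (hγ.restrict _) (hu.restrict _)
    (by rw [Category.assoc, hcomp, ← Category.assoc, whisker_exchange, Category.assoc])
  obtain ⟨G, hG⟩ := exists_glue (B := AMonS S ↥N) Qs hcov d fun i j R y y' hyy => by
    refine eq_of_face_of_lfp (f := f) hQ ((hd i).restrict y) ((hd j).restrict y') ?_ ?_
    · rw [Category.assoc, Category.assoc, hdf, hdf, ← MonoidalCategory.whiskerLeft_comp_assoc,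
        ← MonoidalCategory.whiskerLeft_comp_assoc, hyy]
    · rw [← Category.assoc, ← whisker_exchange, Category.assoc, hd0, ← Category.assoc (_ ▷ R), ← whisker_exchange,
        Category.assoc, hd0, ← MonoidalCategory.whiskerLeft_comp_assoc, ← MonoidalCategory.whiskerLeft_comp_assoc, hyy]
  refine ⟨G, ?_, ?_, ?_⟩
  · rw [isEqvFam_iff]
    refine hom_ext_cover (snd _ _ ≫ snd _ _) Qs hcov fun i R z y hy => ?_
    obtain ⟨b, g, t, rfl⟩ : ∃ b g t, lift b (lift g t) = z :=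
      ⟨z ≫ fst _ _, z ≫ snd _ _ ≫ fst _ _, z ≫ snd _ _ ≫ snd _ _, by
        rw [← comp_lift, ← comp_lift, ← comp_lift, lift_fst_snd, Category.comp_id, lift_fst_snd, Category.comp_id]⟩
    rw [lift_snd_assoc, lift_snd] at hy
    have e : ∀ b' : R ⟶ AMonS S ↥N, lift b' (y ≫ κ i) ≫ G = lift b' y ≫ d i := fun b' => by
      rw [← hG i, lift_whiskerLeft_assoc]
    rw [lift_actFst, lift_actSnd, ← hy, e, e]
    exact (MonAct.mem_eqvHom_iff (d i)).mp (hd i) R g b y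
  · refine hom_ext_cover (snd _ _) Qs hcov fun i R z y hy => ?_
    have h := congrArg (lift (z ≫ fst _ _) y ≫ ·) (hdf i)
    rw [← hG] at h
    simp only [Category.assoc, lift_whiskerLeft_assoc] at h
    rwa [hy, lift_comp_fst_snd] at h
  · refine hom_ext_cover (snd _ _) Qs hcov fun i R z y hy => ?_
    have h := congrArg (lift (z ≫ fst _ _) y ≫ ·) (hd0 i)
    rw [← hG, ← whisker_exchange_assoc] at h
    simp only [lift_whiskerLeft_assoc] at h
    rwa [hy, lift_comp_fst_snd] at h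

end EqLiftLib
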